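import Cfsg.Agent.SylG2.Model
import Cfsg.Agent.Chev.MatG2
import Cfsg.Agent.Chev.MatGL
import Cfsg.Agent.Chev.MatTorus
import Cfsg.Agent.Lin.SL2
import Cfsg.Agent.Lin.Card
import Cfsg.Agent.TwoFus.DQ

/-!
# The Sylow 2-subgroup of `G₂(q)`, `q` odd

The subgroup `SO₄⁺(q) = (SL₂(q) ∘ SL₂(q)).2` is the image of `{(g₁, g₂) ∈ GL₂ × GL₂ | det g₁ = det g₂}`.
-/

set_option autoImplicit false

namespace CL.SylG2

open Matrix MatrixGroups CL.SL2P CL.Wr

section SO4

variable {F : Type*} [Field F] {G : Type*} [Group G]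

/-- `diag(δ, 1)` -/
def dG : Fˣ →* GL (Fin 2) F where
  toFun δ := ⟨!![(δ : F), 0; 0, 1], !![((δ⁻¹ : Fˣ) : F), 0; 0, 1],
    by ext i j; fin_cases i <;> fin_cases j <;> simp [Matrix.mul_apply, Fin.sum_univ_two],
    by ext i j; fin_cases i <;> fin_cases j <;> simp [Matrix.mul_apply, Fin.sum_univ_two]⟩
  map_one' := by ext i j; fin_cases i <;> fin_cases j <;> simp
  map_mul' p q := by
    ext i j; fin_cases i <;> fin_cases j <;> simp [Matrix.mul_apply, Fin.sum_univ_two]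

theorem coe_dG (δ : Fˣ) : ((dG δ : GL (Fin 2) F) : Matrix (Fin 2) (Fin 2) F) = !![(δ : F), 0; 0, 1] := rfl

theorem det_dG (δ : Fˣ) : GeneralLinearGroup.det (dG δ) = δ := by
  ext; simp [coe_dG, det_fin_two]

/-- An element of `GL₂` of determinant one as an element of `SL₂`. -/
def toSL (g : GL (Fin 2) F) (h : GeneralLinearGroup.det g = 1) : SL(2, F) :=
  ⟨g, by simpa using congrArg Units.val h⟩

theorem toGL_toSL (g : GL (Fin 2) F) (h : GeneralLinearGroup.det g = 1) :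
    SpecialLinearGroup.toGL (toSL g h) = g := Units.ext rfl

theorem det_toGL (s : SL(2, F)) : GeneralLinearGroup.det (SpecialLinearGroup.toGL s) = 1 := by
  ext; simp

/-- The `SL₂`-part of an element of `GL₂`. -/
def sig (g : GL (Fin 2) F) : SL(2, F) :=
  toSL (g * (dG (GeneralLinearGroup.det g))⁻¹) (by rw [map_mul, map_inv, det_dG, mul_inv_cancel])

/-- Conjugation by `diag(δ, 1)`. -/
def cj (δ : Fˣ) (s : SL(2, F)) : SL(2, F) :=
  toSL (dG δ * SpecialLinearGroup.toGL s * (dG δ)⁻¹) (by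
    rw [map_mul, map_mul, map_inv, det_toGL, mul_one, mul_inv_cancel])

theorem cj_mul (δ : Fˣ) (s s' : SL(2, F)) : cj δ (s * s') = cj δ s * cj δ s' :=
  SpecialLinearGroup.toGL_injective (by simp only [cj, toGL_toSL, map_mul]; group)

theorem cj_one (δ : Fˣ) : cj δ (1 : SL(2, F)) = 1 :=
  SpecialLinearGroup.toGL_injective (by simp only [cj, toGL_toSL, map_one]; group)

theorem cj_up (δ : Fˣ) (t : F) : cj δ (up t) = up (δ * t) := by
  refine SpecialLinearGroup.toGL_injective ?_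
  rw [cj, toGL_toSL, mul_inv_eq_iff_eq_mul]
  ext i j
  fin_cases i <;> fin_cases j <;> simp [coe_dG, Matrix.mul_apply, Fin.sum_univ_two]

theorem cj_lo (δ : Fˣ) (t : F) : cj δ (lo t) = lo ((δ : F)⁻¹ * t) := by
  refine SpecialLinearGroup.toGL_injective ?_
  rw [cj, toGL_toSL, mul_inv_eq_iff_eq_mul]
  ext i j
  fin_cases i <;> fin_cases j <;> simp [coe_dG, Matrix.mul_apply, Fin.sum_univ_two]
  field_simp

theorem sig_mul (g g' : GL (Fin 2) F) : sig (g * g') = sig g * cj (GeneralLinearGroup.det g) (sig g') :=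
  SpecialLinearGroup.toGL_injective (by
    rw [map_mul]
    simp only [sig, cj, toGL_toSL]
    rw [map_mul GeneralLinearGroup.det, map_mul]
    group)

theorem sig_toGL (s : SL(2, F)) : sig (SpecialLinearGroup.toGL s) = s :=
  SpecialLinearGroup.toGL_injective (by simp only [sig, toGL_toSL, det_toGL, map_one]; group)

/-- `diag(c, c⁻¹)` -/
def dS (c : Fˣ) : SL(2, F) := ⟨!![(c : F), 0; 0, (c : F)⁻¹], by simp [det_fin_two]⟩

theorem dS_eq (c : Fˣ) :
    dS c = up (c : F) * lo (-(c : F)⁻¹) * up (c : F) * (up (-1) * lo (-(-1)⁻¹) * up (-1)) := by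
  ext i j
  fin_cases i <;> fin_cases j <;> simp [dS, Matrix.mul_apply, Fin.sum_univ_two]

theorem dS_neg_one : dS (-1 : Fˣ) = -1 := by
  ext i j
  fin_cases i <;> fin_cases j <;> simp [dS]

/-- The scalar matrix. -/
def sc (c : Fˣ) : GL (Fin 2) F := Units.map (algebraMap F (Matrix (Fin 2) (Fin 2) F)).toMonoidHom c

theorem coe_sc (c : Fˣ) : ((sc c : GL (Fin 2) F) : Matrix (Fin 2) (Fin 2) F) = (c : F) • 1 := by
  simp [sc, Algebra.algebraMap_eq_smul_one]

theorem sc_comm (c : Fˣ) (g : GL (Fin 2) F) : sc c * g = g * sc c := by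
  refine Units.ext ?_
  simp [coe_sc]

theorem det_sc (c : Fˣ) : GeneralLinearGroup.det (sc c) = c * c := by
  ext; simp [coe_sc, sq]

theorem sig_sc (c : Fˣ) : sig (sc c) * dS c = 1 := by
  refine SpecialLinearGroup.toGL_injective ?_
  rw [map_mul, sig, toGL_toSL, det_sc, mul_assoc, sc_comm, mul_assoc, map_one, inv_mul_eq_one]
  refine Units.ext ?_
  change !![((c * c : Fˣ) : F), 0; 0, 1] = !![(c : F), 0; 0, (c : F)⁻¹] * (sc c : GL (Fin 2) F)
  ext i j
  fin_cases i <;> fin_cases j <;> simp [coe_sc]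

/-- Two commuting images of `SL₂` and a torus inducing the diagonal automorphisms on both. -/
structure SO4Data (φ₁ φ₂ : SL(2, F) →* G) (h : Fˣ →* G) : Prop where
  comm : ∀ s s', φ₁ s * φ₂ s' = φ₂ s' * φ₁ s
  conj₁ : ∀ δ s, h δ * φ₁ s = φ₁ (cj δ s) * h δ
  conj₂ : ∀ δ s, h δ * φ₂ s = φ₂ (cj δ s) * h δ
  scalar : ∀ c, φ₁ (dS c) * φ₂ (dS c) = h (c * c)

variable (F) in
/-- Pairs of matrices with the same determinant. -/
def Gam : Subgroup (GL (Fin 2) F × GL (Fin 2) F) :=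
  (GeneralLinearGroup.det.comp (MonoidHom.fst _ _)).eqLocus (GeneralLinearGroup.det.comp (MonoidHom.snd _ _))

theorem mem_Gam {p : GL (Fin 2) F × GL (Fin 2) F} :
    p ∈ Gam F ↔ GeneralLinearGroup.det p.1 = GeneralLinearGroup.det p.2 := Iff.rfl

/-- A pair of elements of `SL₂`. -/
def slPair : SL(2, F) × SL(2, F) →* Gam F :=
  ((SpecialLinearGroup.toGL).prodMap (SpecialLinearGroup.toGL)).codRestrict _ fun p => by
    simp [mem_Gam]

theorem conj_of_up_lo {φ : SL(2, F) →* G} {k : G} {δ : Fˣ} (h1 : ∀ t, k * φ (up t) = φ (up (δ * t)) * k)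
    (h2 : ∀ t, k * φ (lo t) = φ (lo ((δ : F)⁻¹ * t)) * k) (s : SL(2, F)) : k * φ s = φ (cj δ s) * k := by
  induction s using induction_up_lo with
  | h1 => rw [cj_one, map_one, mul_one, one_mul]
  | hu g t ih => rw [cj_mul, map_mul, map_mul, ← mul_assoc, ih, mul_assoc, h1, cj_up, mul_assoc]
  | hl g t ih => rw [cj_mul, map_mul, map_mul, ← mul_assoc, ih, mul_assoc, h2, cj_lo, mul_assoc]

theorem comm_of_up_lo {φ : SL(2, F) →* G} {k : G} (h1 : ∀ t, Commute k (φ (up t)))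
    (h2 : ∀ t, Commute k (φ (lo t))) (s : SL(2, F)) : Commute k (φ s) := by
  induction s using induction_up_lo with
  | h1 => rw [map_one]; exact Commute.one_right k
  | hu g t ih => rw [map_mul]; exact ih.mul_right (h1 t)
  | hl g t ih => rw [map_mul]; exact ih.mul_right (h2 t)

namespace SO4Data

variable {φ₁ φ₂ : SL(2, F) →* G} {h : Fˣ →* G} (D : SO4Data φ₁ φ₂ h)

/-- The homomorphism onto `SO₄⁺`. -/
def hom : Gam F →* G :=
  MonoidHom.mk' (fun p => φ₁ (sig p.1.1) * φ₂ (sig p.1.2) * h (GeneralLinearGroup.det p.1.1)) (by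
    rintro ⟨⟨g₁, g₂⟩, hg⟩ ⟨⟨k₁, k₂⟩, hk⟩
    rw [mem_Gam] at hg
    simp only [Subgroup.coe_mul, Prod.fst_mul, Prod.snd_mul, sig_mul, map_mul] at hg ⊢
    rw [← hg]
    simp only [mul_assoc]
    rw [← mul_assoc (h _) (φ₁ _), D.conj₁, mul_assoc, ← mul_assoc (h _) (φ₂ _), D.conj₂, mul_assoc,
      ← mul_assoc (φ₂ _) (φ₁ _), ← D.comm, mul_assoc])

theorem hom_slPair (s s' : SL(2, F)) : D.hom (slPair (s, s')) = φ₁ s * φ₂ s' := by
  change φ₁ (sig (SpecialLinearGroup.toGL s)) * φ₂ (sig (SpecialLinearGroup.toGL s')) *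
    h (GeneralLinearGroup.det (SpecialLinearGroup.toGL s)) = _
  rw [sig_toGL, sig_toGL, det_toGL, map_one, mul_one]

theorem hom_sc (c : Fˣ) : D.hom ⟨(sc c, sc c), rfl⟩ = 1 := by
  change φ₁ (sig (sc c)) * φ₂ (sig (sc c)) * h (GeneralLinearGroup.det (sc c)) = _
  rw [det_sc, ← D.scalar, mul_assoc, ← mul_assoc (φ₂ _), ← D.comm, mul_assoc, ← map_mul, ← mul_assoc,
    ← map_mul, sig_sc, map_one, map_one, mul_one]

theorem hom_eq_of_sc {p p' : Gam F} (c : Fˣ) (h1 : p.1.1 = sc c * p'.1.1) (h2 : p.1.2 = sc c * p'.1.2) :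
    D.hom p = D.hom p' := by
  rw [show p = ⟨(sc c, sc c), rfl⟩ * p' from Subtype.ext (Prod.ext h1 h2), map_mul, hom_sc, one_mul]

end SO4Data

theorem det_one_add_ne_zero (h2 : (2 : F) ≠ 0) {x : SL(2, F)} {k : ℕ} (hx : (x * x) ^ k = -1) :
    det (1 + (x : Matrix (Fin 2) (Fin 2) F)) ≠ 0 := by
  intro h
  obtain ⟨v, hv, h1⟩ := Matrix.exists_mulVec_eq_zero_iff.2 h
  have h3 : (x : Matrix (Fin 2) (Fin 2) F) *ᵥ v = -v := by
    rw [add_mulVec, one_mulVec] at h1
    exact eq_neg_of_add_eq_zero_right h1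
  have h4 : ∀ j : ℕ, (((x * x) ^ j : SL(2, F)) : Matrix (Fin 2) (Fin 2) F) *ᵥ v = v := fun j => by
    induction j with
    | zero => simp
    | succ j ih =>
      rw [pow_succ, Matrix.SpecialLinearGroup.coe_mul, ← mulVec_mulVec, Matrix.SpecialLinearGroup.coe_mul, ← mulVec_mulVec,
        h3, mulVec_neg, h3, neg_neg, ih]
  have h5 := h4 k
  rw [hx, Matrix.SpecialLinearGroup.coe_neg, Matrix.SpecialLinearGroup.coe_one, neg_mulVec, one_mulVec] at h5
  refine hv ((smul_eq_zero_iff_right h2).1 ?_)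
  rw [two_smul]
  exact add_eq_zero_iff_neg_eq.2 h5

/-- A square root in `PGL₂` of an element of `SL₂`. -/
theorem exists_sqrt {x y : SL(2, F)} (h0 : det (1 + (x : Matrix (Fin 2) (Fin 2) F)) ≠ 0)
    (hyx : y * x = x⁻¹ * y) : ∃ g : GL (Fin 2) F, g * SpecialLinearGroup.toGL x = SpecialLinearGroup.toGL x * g ∧
      SpecialLinearGroup.toGL y * g = g * (SpecialLinearGroup.toGL x)⁻¹ * SpecialLinearGroup.toGL y ∧
      g * g = sc (GeneralLinearGroup.det g) * SpecialLinearGroup.toGL x := by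
  refine ⟨GeneralLinearGroup.mkOfDetNeZero _ h0, Units.ext ?_, ?_, Units.ext ?_⟩
  · simp [add_mul, mul_add]
  · rw [← map_inv]
    refine Units.ext ?_
    have h1 := congrArg (fun g : SL(2, F) => (g : Matrix (Fin 2) (Fin 2) F)) hyx
    have h2 := congrArg (fun g : SL(2, F) => (g : Matrix (Fin 2) (Fin 2) F)) (mul_inv_cancel x)
    simp only [Matrix.SpecialLinearGroup.coe_mul, Matrix.SpecialLinearGroup.coe_one] at h1 h2
    simp only [Units.val_mul, SpecialLinearGroup.coe_GL_coe_matrix, GeneralLinearGroup.val_mkOfDetNeZero,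
      add_mul, mul_add, h1, h2, one_mul, mul_one]
    exact add_comm _ _
  · have h1 := det_rel x
    ext i j
    fin_cases i <;> fin_cases j <;>
      simp [coe_sc, Matrix.mul_apply, Fin.sum_univ_two, det_fin_two, Matrix.one_apply]
    · linear_combination (-(1 + x 0 0)) * h1
    · linear_combination (-x 0 1) * h1
    · linear_combination (-x 1 0) * h1
    · linear_combination (-(1 + x 1 1)) * h1

theorem sc_neg_one : sc (-1 : Fˣ) = SpecialLinearGroup.toGL (-1 : SL(2, F)) := by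
  refine Units.ext ?_
  simp [coe_sc]

/-- The model group maps to `SO₄⁺`. -/
theorem SO4Data.exists_hom_M {φ₁ φ₂ : SL(2, F) →* G} {h : Fˣ →* G} (D : SO4Data φ₁ φ₂ h) (h2 : (2 : F) ≠ 0)
    {x y : SL(2, F)} {k : ℕ} (hx : x ^ 2 ^ (k + 1) = -1) (hy : y * y = -1) (hyx : y * x = x⁻¹ * y) :
    ∃ ψ : M (k + 2) →* G, ψ (M.z _) = φ₁ (-1) := by
  obtain ⟨g, hg1, hg2, hg3⟩ := exists_sqrt (det_one_add_ne_zero h2 (k := 2 ^ k) (by
    rw [← sq, ← pow_mul, ← pow_succ', hx])) hyx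
  have hJ : x ^ 2 ^ k * x ^ 2 ^ k = -1 := by rw [← pow_add, ← two_mul, ← pow_succ', hx]
  have hyJ : y * x ^ 2 ^ k = (x ^ 2 ^ k)⁻¹ * y := by
    rw [← inv_pow]; exact SemiconjBy.pow_right hyx _
  have hJi : (x ^ 2 ^ k)⁻¹ = -x ^ 2 ^ k := by rw [inv_eq_iff_mul_eq_one, mul_neg, hJ, neg_neg]
  have hm : φ₁ (-1) * φ₂ (-1) = 1 := by rw [← dS_neg_one, D.scalar]; simp
  have hneg : ∀ s s', φ₁ (-s) * φ₂ (-s') = φ₁ s * φ₂ s' := fun s s' => by
    rw [← mul_neg_one s, ← neg_one_mul s', map_mul, map_mul, mul_assoc, ← mul_assoc (φ₁ (-1)), hm, one_mul]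
  have hgJ : g * SpecialLinearGroup.toGL (x ^ 2 ^ k) = SpecialLinearGroup.toGL (x ^ 2 ^ k) * g := by
    rw [map_pow]; exact Commute.pow_right hg1 _
  generalize x ^ 2 ^ k = J at hJ hyJ hJi hgJ
  let A : Gam F := ⟨(g, g), rfl⟩
  let B : Gam F := ⟨(g, g * (SpecialLinearGroup.toGL x)⁻¹), by
    rw [mem_Gam, map_mul, map_inv, det_toGL, inv_one, mul_one]⟩
  have hAA : D.hom A * D.hom A = φ₁ x * φ₂ x := by
    rw [← map_mul, ← D.hom_slPair]
    exact D.hom_eq_of_sc (GeneralLinearGroup.det g) hg3 hg3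
  have hAB : D.hom A * D.hom B = φ₁ x := by
    rw [← map_mul, ← mul_one (φ₁ x), ← map_one φ₂, ← D.hom_slPair]
    refine D.hom_eq_of_sc (GeneralLinearGroup.det g) hg3 ?_
    change g * (g * (SpecialLinearGroup.toGL x)⁻¹) = _ * SpecialLinearGroup.toGL 1
    rw [← mul_assoc, hg3, map_one, mul_one, mul_inv_cancel_right]
  have hab : D.hom A * D.hom B = D.hom B * D.hom A := by
    rw [← map_mul, ← map_mul]
    refine congrArg D.hom (Subtype.ext (Prod.ext rfl ?_))
    change g * (g * (SpecialLinearGroup.toGL x)⁻¹) = g * (SpecialLinearGroup.toGL x)⁻¹ * g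
    rw [mul_assoc, (Commute.inv_right hg1).eq]
  obtain ⟨ψ, hψ, -, -⟩ := M.exists_lift (n := k + 2) (a := D.hom A) (b := D.hom B)
    (t := D.hom (slPair (y, y * J))) (u := D.hom (slPair (J, y))) (by
      rw [pow_succ', pow_mul, sq, hAA, Commute.mul_pow (D.comm x x), ← map_pow, ← map_pow, hx, hm]) hab (by
      rw [← map_mul, ← map_mul, Prod.mk_mul_mk, D.hom_slPair, hy, mul_assoc, ← mul_assoc J,
        show J * y = y * J⁻¹ by rw [eq_mul_inv_iff_mul_eq, mul_assoc, hyJ, mul_inv_cancel_left],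
        inv_mul_cancel_right, hy, hm]) (by
      rw [← map_mul, ← map_mul, Prod.mk_mul_mk, D.hom_slPair, hJ, hy, hm]) (by
      rw [← map_mul, ← map_mul, ← map_mul, ← map_mul, Prod.mk_mul_mk, Prod.mk_mul_mk, D.hom_slPair,
        D.hom_slPair, ← mul_assoc y y, hy, hyJ, mul_assoc _ y y, hy, hJi, neg_mul, neg_mul_neg,
        mul_one, neg_one_mul, ← hneg (J * y), neg_neg]) (by
      rw [eq_inv_mul_iff_mul_eq, ← map_mul, ← map_mul]
      refine D.hom_eq_of_sc (GeneralLinearGroup.det g) ?_ ?_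
      · change g * (SpecialLinearGroup.toGL y * g) = _ * SpecialLinearGroup.toGL y
        rw [hg2, ← mul_assoc, ← mul_assoc, hg3, mul_inv_cancel_right]
      · change g * (SpecialLinearGroup.toGL (y * J) * g) = _ * SpecialLinearGroup.toGL (y * J)
        rw [map_mul, mul_assoc, ← hgJ, ← mul_assoc _ g, hg2, ← mul_assoc, ← mul_assoc, ← mul_assoc, hg3,
          mul_inv_cancel_right, mul_assoc]) (by
      rw [← map_mul, ← map_mul]
      exact congrArg D.hom (Subtype.ext (Prod.ext hgJ.symm hg2)))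
  refine ⟨ψ, ?_⟩
  rw [M.z, hf, hψ, ← Commute.mul_pow hab, hAB, ← map_pow]
  exact congrArg φ₁ hx

end SO4

section G2

open Cfsg.Lie CL.ChevM

variable {F : Type*} [Field F]

theorem neg_seven : chevG2.neg 7 = 4 := by decide
theorem neg_eleven : chevG2.neg 11 = 0 := by decide

theorem xU_comm {r s : ℕ} (hr : r = 7 ∨ r = 4) (hs : s = 11 ∨ s = 0) (t u : F) :
    Commute (coreG2.xU F r t) (coreG2.xU F s u) := by
  have h : r < chevG2.nroots ∧ s < chevG2.nroots ∧ s ≠ r ∧ s ≠ chevG2.neg r ∧ chevG2.commTerms r s = [] := by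
    rcases hr with rfl | rfl <;> rcases hs with rfl | rfl <;> decide +kernel
  refine Units.ext ?_
  have := coreG2.x_comm h.1 h.2.1 h.2.2.1 h.2.2.2.1 t u
  rw [ChevalleyDatum.commWord, h.2.2.2.2] at this
  simpa [ChevalleyDatum.wordMat] using this.symm

theorem hU_mul_xU {s : ℕ} (hs : s < 12) (δ : Fˣ) (t : F) :
    coreG2.hU F 10 δ * coreG2.xU F s t = coreG2.xU F s ((δ : F) ^ cartR chevG2 10 s * t) * coreG2.hU F 10 δ :=
  Units.ext (by simpa using coreG2.hMat_mul_x (r := 10) (by decide) hs δ.ne_zero t)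

theorem exists_SO4Data (h2 : (2 : F) ≠ 0) : ∃ (φ₁ φ₂ : SL(2, F) →* chevG2.group F) (h : Fˣ →* chevG2.group F),
    SO4Data φ₁ φ₂ h ∧ φ₁ (-1) ≠ 1 := by
  obtain ⟨φ₁, h1, h1', -⟩ := coreG2.exists_sl2_hom (F := F) (r := 7) (by decide)
  obtain ⟨φ₂, h2, h2', -⟩ := coreG2.exists_sl2_hom (F := F) (r := 11) (by decide)
  have hmem : ∀ {φ : SL(2, F) →* GL chevG2.Idx F} {r : ℕ}, (∀ t, φ (up t) = coreG2.xU F r t) →
      (∀ t, φ (lo t) = coreG2.xU F (chevG2.neg r) t) → ∀ s, φ s ∈ chevG2.group F := fun {φ r} h h' s => by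
    induction s using induction_up_lo with
    | h1 => rw [map_one]; exact one_mem _
    | hu g t ih => rw [map_mul, h]; exact mul_mem ih (coreG2.xU_mem_group _ _)
    | hl g t ih => rw [map_mul, h']; exact mul_mem ih (coreG2.xU_mem_group _ _)
  have hd : ∀ {φ : SL(2, F) →* GL chevG2.Idx F} {r : ℕ}, (∀ t, φ (up t) = coreG2.xU F r t) →
      (∀ t, φ (lo t) = coreG2.xU F (chevG2.neg r) t) → ∀ c : Fˣ, φ (dS c) = coreG2.hU F r c :=
    fun {φ r} h h' c => by simp only [dS_eq, map_mul, h, h', Core.hU, Core.nU]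
  let h : Fˣ →* GL chevG2.Idx F := MonoidHom.mk' (fun c => coreG2.hU F 10 c) fun c d => Units.ext (by
    simpa using (coreG2.hMat_mul (r := 10) (by decide) c.ne_zero d.ne_zero).symm)
  have c7 : cartR chevG2 10 7 = 1 := by decide +kernel
  have c4 : cartR chevG2 10 4 = -1 := by decide +kernel
  have c11 : cartR chevG2 10 11 = 1 := by decide +kernel
  have c0 : cartR chevG2 10 0 = -1 := by decide +kernel
  refine ⟨φ₁.codRestrict _ (hmem h1 h1'), φ₂.codRestrict _ (hmem h2 h2'),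
    h.codRestrict _ fun c => coreG2.hU_mem_group _ _, ⟨fun s s' => Subtype.ext ?_, fun δ s => Subtype.ext ?_,
      fun δ s => Subtype.ext ?_, fun c => Subtype.ext ?_⟩, fun h3 => ?_⟩
  · refine comm_of_up_lo (φ := φ₂) (fun t => ?_) (fun t => ?_) s' <;>
      refine (comm_of_up_lo (φ := φ₁) (fun u => ?_) (fun u => ?_) s).symm <;>
      simp only [h1, h1', h2, h2', neg_seven, neg_eleven] <;>
      exact (xU_comm (by simp) (by simp) _ _).symm
  · refine conj_of_up_lo (φ := φ₁) (k := coreG2.hU F 10 δ) (fun t => ?_) (fun t => ?_) s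
    · rw [h1, h1, hU_mul_xU (by decide), c7, zpow_one]
    · rw [h1', h1', neg_seven, hU_mul_xU (by decide), c4, _root_.zpow_neg_one]
  · refine conj_of_up_lo (φ := φ₂) (k := coreG2.hU F 10 δ) (fun t => ?_) (fun t => ?_) s
    · rw [h2, h2, hU_mul_xU (by decide), c11, zpow_one]
    · rw [h2', h2', neg_eleven, hU_mul_xU (by decide), c0, _root_.zpow_neg_one]
  · change φ₁ (dS c) * φ₂ (dS c) = coreG2.hU F 10 (c * c : Fˣ)
    rw [hd h1 h1', hd h2 h2']
    refine Units.ext ?_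
    have h4 : ∀ s < 12, cartR chevG2 7 s + cartR chevG2 11 s = cartR chevG2 10 s + cartR chevG2 10 s := by
      decide +kernel
    rw [Units.val_mul, Core.coe_hU, Core.coe_hU, Core.coe_hU, coreG2.hMat_eq_diagM (by decide) c.ne_zero,
      coreG2.hMat_eq_diagM (by decide) c.ne_zero, coreG2.hMat_eq_diagM (by decide) (c * c).ne_zero, diagM_mul]
    refine diagM_congr fun s hs => ?_
    rw [← zpow_add₀ c.ne_zero, h4 s hs, zpow_add₀ c.ne_zero, Units.val_mul, mul_zpow]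
  · have h4 : φ₁ (dS (-1)) = 1 := by rw [dS_neg_one]; exact congrArg Subtype.val h3
    rw [hd h1 h1'] at h4
    have h5 := congrArg Units.val h4
    rw [Core.coe_hU, coreG2.hMat_eq_diagM (by decide) (Units.ne_zero _), Units.val_one, ← diagM_one,
      diagM_eq_iff] at h5
    have h6 := h5 6 (by decide)
    rw [show cartR chevG2 7 6 = -3 by decide +kernel] at h6
    apply ‹(2 : F) ≠ 0›
    norm_num at h6
    linear_combination -h6

variable [Fintype F]

/-- The model group embeds in `G₂(q)`. -/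
theorem exists_injective_chevG2 (hF : Odd (Fintype.card F)) :
    ∃ n, 2 ≤ n ∧ (Fintype.card F ^ 2 - 1).factorization 2 = n + 1 ∧
      ∃ ψ : M n →* chevG2.group F, Function.Injective ψ := by
  have h2 := CL.Lin.two_ne_zero_of_odd_card hF
  obtain ⟨φ₁, φ₂, h, D, hne⟩ := exists_SO4Data h2
  obtain ⟨P⟩ : Nonempty (Sylow 2 SL(2, F)) := inferInstance
  obtain ⟨k, hk, ⟨e⟩⟩ := CL.Lin.sylow_two_SL_two_quaternion hF P
  obtain ⟨k, rfl⟩ := Nat.exists_eq_add_of_le' hk
  obtain ⟨x, y, hxy⟩ := exists_isQuatData_of_equiv e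
  have hx : x ^ 2 ^ (k + 1) = -1 := CL.Lin.SL_two_eq_neg_one_of_mul_self h2
    (pow_ne_one_of_lt_orderOf (by positivity) (by rw [hxy.ord]; exact lt_two_mul_self (by positivity)))
    (by rw [← pow_add, ← two_mul, ← hxy.ord, pow_orderOf_eq_one])
  obtain ⟨ψ, hψ⟩ := D.exists_hom_M h2 hx (hxy.sq.trans hx) (by rw [← hxy.conj, inv_mul_cancel_right])
  refine ⟨k + 2, by omega, ?_, ψ, M.injective_of_z (by omega) ψ (hψ ▸ hne)⟩
  have h3 := P.card_eq_multiplicity
  have hq : 1 < Fintype.card F := Fintype.one_lt_card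
  rw [hxy.card_eq, hxy.ord, CL.Lin.card_SL_two, ← pow_succ', ← pow_succ', mul_assoc,
    Nat.factorization_mul (by omega) (Nat.mul_ne_zero (by omega) (by omega)), Finsupp.add_apply,
    Nat.factorization_eq_zero_of_not_dvd (Nat.two_dvd_ne_zero.2 (Nat.odd_iff.1 hF)), zero_add] at h3
  rw [show Fintype.card F ^ 2 - 1 = (Fintype.card F - 1) * (Fintype.card F + 1) by
    rw [mul_comm, ← Nat.sq_sub_sq, one_pow]]
  exact (Nat.pow_right_injective le_rfl h3).symm

/-- The Sylow 2-subgroups of `G₂(q)`, given the order formula. -/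
theorem sylow_chevG2_of_card (hF : Odd (Fintype.card F))
    (hc : Nat.card (chevG2.group F) = Fintype.card F ^ 6 * (Fintype.card F ^ 2 - 1) * (Fintype.card F ^ 6 - 1))
    (P : Sylow 2 (chevG2.group F)) : ∃ n, 2 ≤ n ∧ Nonempty ((P : Subgroup (chevG2.group F)) ≃* M n) := by
  obtain ⟨n, hn, h1, ψ, hψ⟩ := exists_injective_chevG2 hF
  have hq : 1 < Fintype.card F := Fintype.one_lt_card
  generalize Fintype.card F = q at hF hc h1 hq
  have hq2 : 1 < q ^ 2 := Nat.one_lt_pow two_ne_zero hq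
  have h2 : q ^ 6 - 1 = (q ^ 2 - 1) * (q ^ 4 + q ^ 2 + 1) := by
    zify [hq2.le, Nat.one_le_pow 6 q (by omega)]
    ring
  have h3 : ¬ 2 ∣ q ^ 6 * (q ^ 4 + q ^ 2 + 1) :=
    Nat.two_dvd_ne_zero.2 (Nat.odd_iff.1 (hF.pow.mul ((hF.pow.add_odd hF.pow).add_one)))
  have h4 : Nat.card ψ.range = 2 ^ (Nat.card (chevG2.group F)).factorization 2 := by
    rw [← Nat.card_congr (MonoidHom.ofInjective hψ).toEquiv, M.card, hc, h2,
      show q ^ 6 * (q ^ 2 - 1) * ((q ^ 2 - 1) * (q ^ 4 + q ^ 2 + 1)) =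
        q ^ 6 * (q ^ 4 + q ^ 2 + 1) * (q ^ 2 - 1) ^ 2 by ring,
      Nat.factorization_mul (a := q ^ 6 * (q ^ 4 + q ^ 2 + 1)) (fun h => h3 (h ▸ dvd_zero 2))
        (pow_ne_zero 2 (Nat.sub_ne_zero_of_lt hq2)), Finsupp.add_apply,
      Nat.factorization_eq_zero_of_not_dvd h3, Nat.factorization_pow, Finsupp.smul_apply, h1, zero_add]
    rfl
  exact ⟨n, hn, ⟨(Sylow.equiv P (Sylow.ofCard ψ.range h4)).trans (MonoidHom.ofInjective hψ).symm⟩⟩

end G2

end CL.SylG2
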