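import Cfsg.Agent.SylG2.Model
import Cfsg.Agent.TwoFus.AFT
import Cfsg.Agent.TwoFus.SylTools
import Cfsg.Agent.TwoFus.ZStar

/-!
# Fusion of involutions in a group with Sylow 2-subgroups of type `G₂(q)`, `q` odd
-/

set_option autoImplicit false

namespace CL.SylG2

open Subgroup CL.Wr Cfsg

variable {G : Type*} [Group G] [Finite G]

/-- Thompson's transfer lemma with extremal conjugates: if `G` has no subgroup of index two, `S` has odd index,
`Q` has index two in `S`, `w² = 1` and `P` is a 2-subgroup centralising `w`, some element conjugates `w` into `Q`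
and `P` into `S`. -/
theorem thompson_extremal (hG : ∀ H : Subgroup G, H.index ≠ 2) {S Q : Subgroup G} (hS : Odd S.index)
    (hQS : Q ≤ S) (hQ : Q.relIndex S = 2) {w : G} (hw : w * w = 1) {P : Subgroup G} (hP : IsPGroup 2 P)
    (hPw : ∀ p ∈ P, p * w = w * p) : ∃ g : G, g⁻¹ * w * g ∈ Q ∧ ∀ p ∈ P, g⁻¹ * p * g ∈ S := by
  classical
  have := Fintype.ofFinite (G ⧸ Q)
  let W : Set G := {g | g⁻¹ * w * g ∈ Q}
  let X : SubMulAction P (G ⧸ S) :=
    { carrier := {x | ∃ g ∈ W, (g : G ⧸ S) = x}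
      smul_mem' := by
        rintro p _ ⟨g, hg, rfl⟩
        refine ⟨p * g, ?_, rfl⟩
        change (p * g)⁻¹ * w * (p * g) ∈ Q
        rw [show ((p : G) * g)⁻¹ * w * (p * g) = g⁻¹ * ((p : G)⁻¹ * (w * p)) * g by group, ← hPw p p.2,
          inv_mul_cancel_left]
        exact hg }
  let σ := MulAction.toPermHom G (G ⧸ Q) w
  have hY : QuotientGroup.mk ⁻¹' Function.fixedPoints σ = W := by
    ext g
    change ((w * g : G) : G ⧸ Q) = g ↔ g⁻¹ * w * g ∈ Q
    rw [eq_comm, QuotientGroup.eq, mul_assoc]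
  have hX : QuotientGroup.mk ⁻¹' (X : Set (G ⧸ S)) = W := by
    ext g
    refine ⟨?_, fun hg => ⟨g, hg, rfl⟩⟩
    rintro ⟨k, hk, h⟩
    rw [QuotientGroup.eq] at h
    have h1 := (CL.Fus.conj_mem_of_relIndex_two hQ (inv_mem h) (hQS hk)).2 hk
    change g⁻¹ * w * g ∈ Q
    convert h1 using 1
    group
  have h1 := QuotientGroup.card_preimage_mk Q (Function.fixedPoints σ)
  have h2 := QuotientGroup.card_preimage_mk S (X : Set (G ⧸ S))
  have h3 : Nat.card S = Nat.card Q * 2 := by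
    rw [← hQ, ← Nat.card_congr (subgroupOfEquivOfLe hQS).toEquiv]; exact (card_mul_index _).symm
  have h4 : Nat.card (Function.fixedPoints σ) = 2 * Nat.card (X : Set (G ⧸ S)) := by
    rw [hY] at h1
    rw [hX, h1, h3, mul_assoc] at h2
    exact Nat.eq_of_mul_eq_mul_left Nat.card_pos h2
  have h5 : Nat.card (X : Set (G ⧸ S)) ≤ S.index := Nat.card_le_card_of_injective _ Subtype.val_injective
  have h6 : Equiv.Perm.sign σ = 1 := by
    let f : G →* ℤˣ := Equiv.Perm.sign.comp (MulAction.toPermHom G (G ⧸ Q))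
    by_contra hne
    refine hG f.ker ?_
    rw [index_ker, MonoidHom.range_eq_top.2, card_top, Nat.card_eq_fintype_card, Fintype.card_units_int]
    intro y
    rcases Int.units_eq_one_or y with rfl | rfl
    exacts [⟨1, map_one f⟩, ⟨w, (Int.units_eq_one_or _).resolve_left hne⟩]
  have h7 := Equiv.Perm.sign_of_pow_two_eq_one (σ := σ) (by rw [← map_pow, sq, hw, map_one])
  rw [h6, ← Nat.card_eq_fintype_card, ← Nat.card_eq_fintype_card, h4, ← index_eq_card,
    ← relIndex_mul_index hQS, hQ, ← Nat.mul_sub, Nat.mul_div_cancel_left _ two_pos] at h7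
  have h8 : Even (S.index - Nat.card (X : Set (G ⧸ S))) := by
    by_contra h
    rw [(Nat.not_even_iff_odd.1 h).neg_one_pow] at h7
    exact absurd h7 (by decide)
  have h9 : ¬ 2 ∣ Nat.card X := by
    change ¬ 2 ∣ Nat.card (X : Set (G ⧸ S))
    obtain ⟨a, ha⟩ := hS
    obtain ⟨b, hb⟩ := h8
    omega
  obtain ⟨⟨_, g, hg, rfl⟩, hx⟩ := hP.nonempty_fixed_point_of_prime_not_dvd_card X h9
  refine ⟨g, hg, fun p hp => ?_⟩
  have h10 : ((p * g : G) : G ⧸ S) = g := congrArg Subtype.val (hx ⟨p, hp⟩)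
  rw [eq_comm, QuotientGroup.eq] at h10
  rwa [mul_assoc]

/-- `ι` identifies the model group with the Sylow subgroup `S`. -/
structure Emb (S : Sylow 2 G) {n : ℕ} (ι : M n →* G) : Prop where
  two_le : 2 ≤ n
  inj : Function.Injective ι
  range : ι.range = S

omit [Finite G] in
theorem exists_emb (S : Sylow 2 G) {n : ℕ} (hn : 2 ≤ n) (e : (S : Subgroup G) ≃* M n) :
    ∃ ι : M n →* G, Emb S ι :=
  ⟨(S : Subgroup G).subtype.comp e.symm.toMonoidHom, hn,
    (S : Subgroup G).subtype_injective.comp e.symm.injective, by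
      rw [MonoidHom.range_comp, MonoidHom.range_eq_top.2 e.symm.surjective, ← MonoidHom.range_eq_map,
        range_subtype]⟩

namespace Emb

open M

variable {S : Sylow 2 G} {n : ℕ} {ι : M n →* G} (h : Emb S ι)
include h

omit [Finite G] in
theorem one_le : 1 ≤ n := le_trans one_le_two h.two_le

omit [Finite G] in
theorem mem (a : M n) : ι a ∈ (S : Subgroup G) := h.range ▸ ⟨a, rfl⟩

omit [Finite G] in
theorem exists_eq {g : G} (hg : g ∈ (S : Subgroup G)) : ∃ a, ι a = g := by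
  rwa [← h.range] at hg

omit [Finite G] in
theorem card_sylow : Nat.card (S : Subgroup G) = 2 ^ (2 * n + 2) := by
  rw [← h.range, ← M.card n]
  exact (Nat.card_congr (MonoidHom.ofInjective h.inj).toEquiv).symm

omit [Finite G] in
theorem orderOf_eq_two {a : M n} (ha : a * a = 1) (h1 : a ≠ 1) : orderOf (ι a) = 2 := by
  rw [orderOf_injective ι h.inj]
  exact orderOf_eq_prime (by rw [sq, ha]) h1

omit [Finite G] in
theorem le_centralizer_z : (S : Subgroup G) ≤ centralizer {ι (z n)} := fun g hg => by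
  obtain ⟨a, rfl⟩ := h.exists_eq hg
  rw [mem_centralizer_singleton_iff, ← map_mul, z_comm h.one_le, map_mul]

omit [Finite G] in
/-- An element of the model that is mapped to a conjugate of an involution is an involution. -/
theorem invol_of_isConj {a : M n} {w : G} (hw : orderOf w = 2) (hc : IsConj w (ι a)) : a * a = 1 ∧ a ≠ 1 := by
  obtain ⟨g, hg⟩ := isConj_iff.1 hc
  have h1 : orderOf a = 2 := by
    rw [← orderOf_injective ι h.inj, ← hg, ← hw]
    exact orderOf_injective (MulAut.conj g).toMonoidHom (MulAut.conj g).injective w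
  refine ⟨by rw [← sq, ← h1, pow_orderOf_eq_one], ?_⟩
  rintro rfl
  simp at h1

/-- A conjugate of `z` in `S` can be moved to `z` together with its centraliser in `S`. -/
theorem exists_conj_z {w : M n} (hw : IsConj (ι w) (ι (z n))) :
    ∃ g : G, g * ι w * g⁻¹ = ι (z n) ∧ ∀ c, c * w = w * c → ∃ d, ι d = g * ι c * g⁻¹ := by
  obtain ⟨g, hg⟩ := isConj_iff.1 hw
  obtain ⟨k, hk, hk2⟩ := CL.TF.exists_conj_le_sylow_of_conj_le S h.le_centralizer_z
    (((M.isPGroup n).to_subgroup (centralizer {w})).map ι) (g := g⁻¹) (by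
      rintro _ ⟨c, hc, rfl⟩
      rw [SetLike.mem_coe, mem_centralizer_singleton_iff] at hc
      rw [mem_centralizer_singleton_iff, ← hg, inv_inv]
      calc g * ι c * g⁻¹ * (g * ι w * g⁻¹) = g * ι (c * w) * g⁻¹ := by rw [map_mul]; group
        _ = _ := by rw [hc, map_mul]; group)
  rw [inv_inv] at hk2
  rw [mem_centralizer_singleton_iff] at hk
  refine ⟨k * g, ?_, fun c hc => h.exists_eq (hk2 ⟨ι c, ⟨c, ?_, rfl⟩, rfl⟩)⟩
  · rw [show k * g * ι w * (k * g)⁻¹ = k * (g * ι w * g⁻¹) * k⁻¹ by group, hg, hk, mul_inv_cancel_right]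
  · rw [SetLike.mem_coe, mem_centralizer_singleton_iff]; exact hc

/-- If `z` is fused to another involution of `Q₁ ∘ Q₂` then it is fused to `z₁`. -/
theorem isConj_z_z₁_of_par {w : M n} (hw : IsConj (ι w) (ι (z n))) (hne : w ≠ z n)
    (hp : par h.one_le (w.x + w.y) = 0) : IsConj (ι (z n)) (ι (z₁ n)) := by
  have hz := h.orderOf_eq_two (z_mul_z h.one_le) (z_ne_one h.one_le)
  obtain ⟨g, hg, hc⟩ := h.exists_conj_z hw
  obtain ⟨c, hc1, hc2⟩ := exists_sq_eq_z h.two_le (h.invol_of_isConj hz hw.symm).1 hp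
  obtain ⟨d, hd⟩ := hc c hc1
  have h1 : ι (d * d) = g * ι (z n) * g⁻¹ := by rw [map_mul, hd, ← hc2, map_mul]; group
  have h2 : IsConj (ι (z n)) (ι (d * d)) := isConj_iff.2 ⟨g, h1.symm⟩
  obtain ⟨h3, h4⟩ := h.invol_of_isConj hz h2
  rcases eq_of_mem_A h.one_le h3 (sq_e d) (sq_f d) with h5 | h5 | h5 | h5
  · exact absurd h5 h4
  · rw [h5] at h1
    rw [h1] at hg
    exact absurd (h.inj (mul_left_cancel (mul_right_cancel hg))) hne
  · rwa [h5] at h2
  · rw [h5] at h2
    exact h2.trans (ι.map_isConj isConj_z₂_z₁)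

/-- If `z` is not isolated then it is fused to `z₁`. -/
theorem isConj_z_z₁_of_ne {w : M n} (hw : IsConj (ι w) (ι (z n))) (hne : w ≠ z n) :
    IsConj (ι (z n)) (ι (z₁ n)) := by
  by_contra hcon
  have hz := h.orderOf_eq_two (z_mul_z h.one_le) (z_ne_one h.one_le)
  have hp : ∀ w, IsConj (ι w) (ι (z n)) → w ≠ z n → par h.one_le (w.x + w.y) ≠ 0 :=
    fun w hw hne hp => hcon (h.isConj_z_z₁_of_par hw hne hp)
  have hw2 := (h.invol_of_isConj hz hw.symm).1
  obtain ⟨-, hf'⟩ := e_f_of_par_ne h.two_le hw2 (hp w hw hne)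
  obtain ⟨g, hg, hc⟩ := h.exists_conj_z hw
  obtain ⟨d₁, hd₁⟩ := hc _ (z₁_comm h.one_le hf')
  obtain ⟨d₂, hd₂⟩ := hc _ (z₂_comm h.one_le hf')
  have h1 : ι (d₁ * d₂) = g * ι (z n) * g⁻¹ := by rw [map_mul, hd₁, hd₂, ← z₁_mul_z₂, map_mul]; group
  have h2 : par h.one_le ((d₁ * d₂).x + (d₁ * d₂).y) ≠ 0 := by
    refine hp _ (isConj_iff.2 ⟨g, h1.symm⟩).symm fun h3 => ?_
    rw [h3] at h1
    rw [h1] at hg
    exact hne (h.inj (mul_left_cancel (mul_right_cancel hg)))
  have key : ∀ d, IsConj (ι (z₁ n)) (ι d) → par h.one_le (d.x + d.y) = 0 := fun d hd => by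
    by_contra h3
    have h4 := (h.invol_of_isConj (h.orderOf_eq_two (z₁_mul_z₁ h.one_le) (z₁_ne_one h.one_le)) hd).1
    exact hcon (hw.symm.trans ((ι.map_isConj ((isConj_of_par_ne h.two_le hw2 (hp w hw hne)).trans
      (isConj_of_par_ne h.two_le h4 h3).symm)).trans hd.symm))
  have h3 := key d₁ (isConj_iff.2 ⟨g, hd₁.symm⟩)
  have h4 := key d₂ ((ι.map_isConj isConj_z₂_z₁.symm).trans (isConj_iff.2 ⟨g, hd₂.symm⟩))
  have h5 : chi h.one_le 1 0 0 (d₁ * d₂) = 1 := by
    rw [map_mul, (chi_eq_one_iff h.one_le 1 0 0 d₁).2 (by simp [h3]),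
      (chi_eq_one_iff h.one_le 1 0 0 d₂).2 (by simp [h4]), one_mul]
  rw [chi_eq_one_iff] at h5
  exact h2 (by simpa using h5)

/-- In a simple group `z` is fused to `z₁` (the `Z*`-theorem). -/
theorem isConj_z_z₁ [IsSimpleGroup G] : IsConj (ι (z n)) (ι (z₁ n)) := by
  by_contra hcon
  have hz := h.orderOf_eq_two (z_mul_z h.one_le) (z_ne_one h.one_le)
  have hiso := CL.Isol.isol_of_sylow S hz fun g hg => by
    obtain ⟨w, hw⟩ := h.exists_eq hg
    by_contra hne
    exact hcon (h.isConj_z_z₁_of_ne (isConj_iff.2 ⟨g, hw.symm⟩).symm fun h1 => hne (by rw [← hw, h1]))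
  obtain ⟨N, hN, hodd, hc⟩ := CL.Isol.zstar hiso
  rcases hN.eq_bot_or_eq_top with rfl | rfl
  · have h1 : ι (z n) ∈ center G := mem_center_iff.2 fun g => by
      have := mem_bot.1 (hc g)
      rw [mul_inv_eq_one, mul_inv_eq_iff_eq_mul] at this
      exact this.symm
    rcases (inferInstance : (center G).Normal).eq_bot_or_eq_top with h2 | h2
    · rw [h2, mem_bot] at h1
      rw [h1, orderOf_one] at hz
      exact absurd hz (by decide)
    · have h3 : ι (u n) * ι (z₁ n) = ι (z₁ n) * ι (u n) :=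
        Subgroup.mem_center_iff.1 (h2 ▸ mem_top (ι (z₁ n))) _
      rw [← map_mul, ← map_mul] at h3
      have h4 := h.inj h3
      simp [u, z₁, hf_ne_zero h.one_le] at h4
  · rw [card_top] at hodd
    exact (Nat.not_even_iff_odd.2 hodd) (even_iff_two_dvd.2 (hz ▸ orderOf_dvd_natCard _))

/-- Thompson's transfer lemma for the kernel of a linear character of the model. -/
theorem thompson (hG : ∀ H : Subgroup G, H.index ≠ 2) (χ : M n →* Multiplicative (ZMod 2)) {a : M n}
    (ha : χ a ≠ 1) {w : G} (hw : w * w = 1) {P : Subgroup G} (hP : IsPGroup 2 P)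
    (hPw : ∀ p ∈ P, p * w = w * p) :
    ∃ (g : G) (b : M n), χ b = 1 ∧ ι b = g⁻¹ * w * g ∧ ∀ p ∈ P, ∃ c, ι c = g⁻¹ * p * g := by
  have h1 : (χ.ker.map ι).relIndex S = 2 := by
    rw [← h.range, MonoidHom.range_eq_map, relIndex_map_map_of_injective _ _ h.inj, relIndex_top_right,
      index_ker, MonoidHom.range_eq_top.2, card_top, Nat.card_eq_fintype_card]
    · rfl
    · intro y
      by_cases hy : y = 1
      · exact ⟨1, by rw [map_one, hy]⟩
      · refine ⟨a, ?_⟩
        revert ha hy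
        generalize χ a = c
        revert c y
        decide
  obtain ⟨g, ⟨b, hb, hb2⟩, hg⟩ := thompson_extremal hG
    (Nat.not_even_iff_odd.1 fun h => S.not_dvd_index h.two_dvd) (h.range ▸ map_le_range ι χ.ker) h1 hw hP hPw
  exact ⟨g, b, hb, hb2, fun p hp => h.exists_eq (hg p hp)⟩

omit [Finite G] in
theorem isConj_z_of_mem_A (hz : IsConj (ι (z n)) (ι (z₁ n))) {b : M n} (hb : b * b = 1) (h1 : b ≠ 1)
    (he : b.e = false) (hf' : b.f = false) : IsConj (ι b) (ι (z n)) := by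
  rcases eq_of_mem_A h.one_le hb he hf' with rfl | rfl | rfl | rfl
  · exact absurd rfl h1
  · exact IsConj.refl _
  · exact hz.symm
  · exact (ι.map_isConj isConj_z₂_z₁).trans hz.symm

/-- An involution not conjugate to `z` is conjugate to `u`. -/
theorem isConj_u_of_not (hG : ∀ H : Subgroup G, H.index ≠ 2) (hz : IsConj (ι (z n)) (ι (z₁ n))) {w : G}
    (hw : orderOf w = 2) (hwz : ¬ IsConj w (ι (z n))) : IsConj w (ι (u n)) := by
  obtain ⟨g, b, hb, hb2, -⟩ := h.thompson hG (chi h.one_le 0 1 0) (a := t n) (by simp [chi_eq_one_iff, t])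
    (w := w) (by rw [← sq, ← hw, pow_orderOf_eq_one]) IsPGroup.of_bot (by simp)
  have h1 : IsConj w (ι b) := isConj_iff.2 ⟨g⁻¹, by rw [hb2, inv_inv]⟩
  obtain ⟨h2, h3⟩ := h.invol_of_isConj hw h1
  have he : b.e = false := by
    rw [chi_eq_one_iff] at hb
    revert hb
    cases b.e <;> simp
  cases hf' : b.f
  · exact absurd (h1.trans (h.isConj_z_of_mem_A hz h2 h3 he hf')) hwz
  · exact h1.trans (ι.map_isConj (isConj_u h2 he hf'))

/-- If `u` is not conjugate to `z` then `|S| = 64`. -/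
theorem eq_two_of_not (hG : ∀ H : Subgroup G, H.index ≠ 2) (hz : IsConj (ι (z n)) (ι (z₁ n)))
    (hu : ¬ IsConj (ι (u n)) (ι (z n))) : n = 2 := by
  let c₀ : M n := ⟨1, 1, false, false⟩
  obtain ⟨g, b, hb, hb2, hP⟩ := h.thompson hG (chi h.one_le 1 0 1) (a := u n) (by simp [chi_eq_one_iff, u])
    (w := ι (u n)) (by rw [← map_mul, u_mul_u, map_one])
    (((M.isPGroup n).to_subgroup (centralizer {u n})).map ι) (by
      rintro _ ⟨c, hc, rfl⟩
      rw [SetLike.mem_coe, mem_centralizer_singleton_iff] at hc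
      rw [← map_mul, hc, map_mul])
  have h0 : c₀ * u n = u n * c₀ := by simp [c₀, u]
  obtain ⟨c, hc⟩ := hP (ι c₀) ⟨c₀, by rw [SetLike.mem_coe, mem_centralizer_singleton_iff]; exact h0, rfl⟩
  have h1 : IsConj (ι (u n)) (ι b) := isConj_iff.2 ⟨g⁻¹, by rw [hb2, inv_inv]⟩
  obtain ⟨h2, h3⟩ := h.invol_of_isConj (h.orderOf_eq_two u_mul_u u_ne_one) h1
  rw [chi_eq_one_iff] at hb
  have hf' : b.f = false := by
    by_contra h4
    rw [Bool.not_eq_false] at h4
    have h5 : par h.one_le (b.x + b.y) ≠ 0 := fun h5 => by simp [h4, h5] at hb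
    rw [(e_f_of_par_ne h.two_le h2 h5).2] at h4
    exact absurd h4 (by decide)
  have he : b.e = true := by
    by_contra h4
    rw [Bool.not_eq_true] at h4
    exact hu (h1.trans (h.isConj_z_of_mem_A hz h2 h3 h4 hf'))
  have h4 : c * b = b * c := h.inj (by
    rw [map_mul, map_mul, hc, hb2]
    calc g⁻¹ * ι c₀ * g * (g⁻¹ * ι (u n) * g) = g⁻¹ * ι (c₀ * u n) * g := by rw [map_mul]; group
      _ = _ := by rw [h0, map_mul]; group)
  have h5 : c₀ ^ 4 = 1 := h.inj (by
    have h6 := congrArg ι (pow_four_of_comm he hf' h4)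
    rw [map_pow, hc, map_one, show g⁻¹ * ι c₀ * g = g⁻¹ * ι c₀ * g⁻¹⁻¹ by rw [inv_inv], conj_pow,
      mul_inv_eq_one, mul_eq_left] at h6
    rw [map_pow, h6, map_one])
  rw [r_pow, mk_eq_one, mul_one] at h5
  exact le_antisymm (le_two_of_four_eq_zero h5.1) h.two_le

theorem index_ne_two [IsSimpleGroup G] (H : Subgroup G) : H.index ≠ 2 := fun hH => by
  rcases (normal_of_index_eq_two hH).eq_bot_or_eq_top with rfl | rfl
  · have h1 := card_le_of_le (le_top : (S : Subgroup G) ≤ ⊤)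
    rw [card_top, h.card_sylow, ← index_bot, hH] at h1
    have h2 : 2 ^ 2 ≤ 2 ^ (2 * n + 2) := Nat.pow_le_pow_right two_pos (by omega)
    omega
  · simp at hH

/-- The fusion pattern of involutions in a simple group. -/
theorem involution_classes [IsSimpleGroup G] :
    (∀ x y : G, orderOf x = 2 → orderOf y = 2 → IsConj x y) ∨
      (n = 2 ∧ ¬ IsConj (ι (z n)) (ι (u n)) ∧
        ∀ w : G, orderOf w = 2 → IsConj w (ι (z n)) ∨ IsConj w (ι (u n))) := by
  have h1 : ∀ w : G, orderOf w = 2 → IsConj w (ι (z n)) ∨ IsConj w (ι (u n)) := fun w hw =>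
    or_iff_not_imp_left.2 (h.isConj_u_of_not h.index_ne_two h.isConj_z_z₁ hw)
  by_cases hu : IsConj (ι (u n)) (ι (z n))
  · have h2 : ∀ w : G, orderOf w = 2 → IsConj w (ι (z n)) := fun w hw => (h1 w hw).elim id (·.trans hu)
    exact Or.inl fun x y hx hy => (h2 x hx).trans (h2 y hy).symm
  · exact Or.inr ⟨h.eq_two_of_not h.index_ne_two h.isConj_z_z₁ hu, fun h => hu h.symm, h1⟩

end Emb

end CL.SylG2
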