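import Cfsg.Agent.Base
import Cfsg.Agent.TwoFus.WrBasic
import Cfsg.Agent.PGrp.Basic

/-!
# The 2-group `(Z_{2^n} × Z_{2^n}) : 2²` (Sylow 2-subgroup of `G₂(q)`, `q` odd)

`⟨x, y, e, f⟩` stands for `a^x b^y t^e u^f`, where `t` inverts `A = ⟨a, b⟩` and `u` swaps `a` and `b`.
-/

set_option autoImplicit false

namespace CL.SylG2

open CL.Wr

/-- The element `a^x b^y t^e u^f`. -/
@[ext] structure M (n : ℕ) where
  x : ZMod (2 ^ n)
  y : ZMod (2 ^ n)
  e : Bool
  f : Bool

namespace M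

variable {n : ℕ}

/-- First coordinate of the image of `(x, y)` under `t^e u^f`. -/
def px (e f : Bool) (x y : ZMod (2 ^ n)) : ZMod (2 ^ n) :=
  match e, f with
  | false, false => x
  | false, true => y
  | true, false => -x
  | true, true => -y

@[simp] theorem px_ff (x y : ZMod (2 ^ n)) : px false false x y = x := rfl
@[simp] theorem px_ft (x y : ZMod (2 ^ n)) : px false true x y = y := rfl
@[simp] theorem px_tf (x y : ZMod (2 ^ n)) : px true false x y = -x := rfl
@[simp] theorem px_tt (x y : ZMod (2 ^ n)) : px true true x y = -y := rfl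

instance instMul : Mul (M n) :=
  ⟨fun a b => ⟨a.x + px a.e a.f b.x b.y, a.y + px a.e a.f b.y b.x, xor a.e b.e, xor a.f b.f⟩⟩

instance instOne : One (M n) := ⟨⟨0, 0, false, false⟩⟩

instance instInv : Inv (M n) := ⟨fun a => ⟨-px a.e a.f a.x a.y, -px a.e a.f a.y a.x, a.e, a.f⟩⟩

@[simp] theorem mk_mul_mk (x y x' y' : ZMod (2 ^ n)) (e f e' f' : Bool) :
    (⟨x, y, e, f⟩ : M n) * ⟨x', y', e', f'⟩ =
      ⟨x + px e f x' y', y + px e f y' x', xor e e', xor f f'⟩ := rfl

theorem one_def : (1 : M n) = ⟨0, 0, false, false⟩ := rfl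

@[simp] theorem inv_mk (x y : ZMod (2 ^ n)) (e f : Bool) :
    (⟨x, y, e, f⟩ : M n)⁻¹ = ⟨-px e f x y, -px e f y x, e, f⟩ := rfl

instance instGroup : Group (M n) :=
  Group.ofLeftAxioms
    (by
      rintro ⟨x, y, _ | _, _ | _⟩ ⟨x', y', _ | _, _ | _⟩ ⟨x'', y'', _ | _, _ | _⟩ <;>
        simp [add_assoc] <;> constructor <;> ring)
    (by rintro ⟨x, y, _ | _, _ | _⟩ <;> simp [one_def])
    (by rintro ⟨x, y, _ | _, _ | _⟩ <;> simp [one_def])

@[simp] theorem mk_eq_one {x y : ZMod (2 ^ n)} {e f : Bool} :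
    (⟨x, y, e, f⟩ : M n) = 1 ↔ x = 0 ∧ y = 0 ∧ e = false ∧ f = false := by
  rw [one_def, mk.injEq]

@[simp] theorem one_eq_mk {x y : ZMod (2 ^ n)} {e f : Bool} :
    1 = (⟨x, y, e, f⟩ : M n) ↔ x = 0 ∧ y = 0 ∧ e = false ∧ f = false := by
  rw [eq_comm, mk_eq_one]

@[simp] theorem mul_e (g h : M n) : (g * h).e = xor g.e h.e := rfl
@[simp] theorem mul_f (g h : M n) : (g * h).f = xor g.f h.f := rfl
@[simp] theorem inv_e (g : M n) : g⁻¹.e = g.e := rfl
@[simp] theorem inv_f (g : M n) : g⁻¹.f = g.f := rfl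
@[simp] theorem one_x : (1 : M n).x = 0 := rfl
@[simp] theorem one_y : (1 : M n).y = 0 := rfl
@[simp] theorem one_e : (1 : M n).e = false := rfl
@[simp] theorem one_f : (1 : M n).f = false := rfl

/-- Coordinates. -/
def equivProd (n : ℕ) : M n ≃ ZMod (2 ^ n) × ZMod (2 ^ n) × Bool × Bool where
  toFun g := (g.x, g.y, g.e, g.f)
  invFun p := ⟨p.1, p.2.1, p.2.2.1, p.2.2.2⟩
  left_inv _ := rfl
  right_inv _ := rfl

instance instFinite : Finite (M n) := Finite.of_equiv _ (equivProd n).symm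

theorem card (n : ℕ) : Nat.card (M n) = 2 ^ (2 * n + 2) := by
  rw [Nat.card_congr (equivProd n)]
  simp only [Nat.card_prod, Nat.card_zmod]
  rw [Nat.card_eq_fintype_card, Fintype.card_bool]
  ring

theorem isPGroup (n : ℕ) : IsPGroup 2 (M n) := IsPGroup.of_card (card n)

theorem r_pow (x y : ZMod (2 ^ n)) (k : ℕ) :
    (⟨x, y, false, false⟩ : M n) ^ k = ⟨k * x, k * y, false, false⟩ := by
  induction k with
  | zero => simp
  | succ k ih => rw [pow_succ, ih]; simp [add_mul]

theorem r_zpow (x y : ZMod (2 ^ n)) (k : ℤ) :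
    (⟨x, y, false, false⟩ : M n) ^ k = ⟨k * x, k * y, false, false⟩ := by
  rcases Int.eq_nat_or_neg k with ⟨k, rfl | rfl⟩
  · rw [zpow_natCast, r_pow]; simp
  · rw [zpow_neg, zpow_natCast, r_pow]; simp

/-- The central involution. -/
def z (n : ℕ) : M n := ⟨hf n, hf n, false, false⟩

/-- The other involutions of `A`. -/
def z₁ (n : ℕ) : M n := ⟨hf n, 0, false, false⟩

/-- See `z₁`. -/
def z₂ (n : ℕ) : M n := ⟨0, hf n, false, false⟩

/-- The swapping involution. -/
def u (n : ℕ) : M n := ⟨0, 0, false, true⟩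

/-- The inverting involution. -/
def t (n : ℕ) : M n := ⟨0, 0, true, false⟩

theorem z₁_mul_z₂ : z₁ n * z₂ n = z n := by simp [z, z₁, z₂]

theorem z_mul_z (hn : 1 ≤ n) : z n * z n = 1 := by simp [z, hf_add_hf hn]

theorem z₁_mul_z₁ (hn : 1 ≤ n) : z₁ n * z₁ n = 1 := by simp [z₁, hf_add_hf hn]

theorem z₂_mul_z₂ (hn : 1 ≤ n) : z₂ n * z₂ n = 1 := by simp [z₂, hf_add_hf hn]

theorem u_mul_u : u n * u n = 1 := by simp [u]

theorem t_mul_t : t n * t n = 1 := by simp [t]

theorem z_ne_one (hn : 1 ≤ n) : z n ≠ 1 := by simp [z, hf_ne_zero hn]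

theorem z₁_ne_one (hn : 1 ≤ n) : z₁ n ≠ 1 := by simp [z₁, hf_ne_zero hn]

theorem z₂_ne_one (hn : 1 ≤ n) : z₂ n ≠ 1 := by simp [z₂, hf_ne_zero hn]

theorem u_ne_one : u n ≠ 1 := by simp [u]

theorem t_ne_one : t n ≠ 1 := by simp [t]

theorem z_comm (hn : 1 ≤ n) (g : M n) : g * z n = z n * g := by
  rcases g with ⟨x, y, _ | _, _ | _⟩ <;> simp [z, neg_hf hn, add_comm]

theorem isConj_z₂_z₁ : IsConj (z₂ n) (z₁ n) :=
  isConj_iff.2 ⟨u n, by simp [u, z₁, z₂]⟩

theorem sq_e (g : M n) : (g * g).e = false := by simp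

theorem sq_f (g : M n) : (g * g).f = false := by simp

/-- The involutions of `A`. -/
theorem eq_of_mem_A (hn : 1 ≤ n) {w : M n} (hw : w * w = 1) (he : w.e = false) (hf' : w.f = false) :
    w = 1 ∨ w = z n ∨ w = z₁ n ∨ w = z₂ n := by
  rcases w with ⟨x, y, e, f⟩
  simp only at he hf'
  subst he hf'
  simp only [mk_mul_mk, px_ff, mk_eq_one, add_self_eq_zero_iff' hn] at hw
  rcases hw with ⟨rfl | rfl, rfl | rfl, -⟩ <;> simp [z, z₁, z₂]

theorem mem_center_iff (hn : 2 ≤ n) {g : M n} : g ∈ Subgroup.center (M n) ↔ g = 1 ∨ g = z n := by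
  have hn1 : 1 ≤ n := by omega
  constructor
  · intro h
    rw [Subgroup.mem_center_iff] at h
    have h1 := h ⟨1, 0, false, false⟩
    have h2 := h (t n)
    have h3 := h (u n)
    have h4 := one_add_one_ne_zero' hn
    have h5 := one_ne_zero' hn1
    rcases g with ⟨x, y, _ | _, _ | _⟩ <;>
      simp only [mk_mul_mk, t, u, px_ff, px_ft, px_tf, px_tt, mk.injEq] at h1 h2 h3
    · have hx : x + x = 0 := by linear_combination -h2.1
      have hxy : y = x := by linear_combination h3.1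
      subst hxy
      rcases (add_self_eq_zero_iff' hn1 y).1 hx with rfl | rfl
      · left; simp
      · right; rfl
    · exact absurd (by linear_combination h1.1) h5
    · exact absurd (by linear_combination h1.1) h4
    · exact absurd (by linear_combination h1.1) h5
  · rintro (rfl | rfl)
    · exact one_mem _
    · exact Subgroup.mem_center_iff.2 (z_comm hn1)

/-- A homomorphism that does not kill `z` is injective. -/
theorem injective_of_z (hn : 2 ≤ n) {G : Type*} [Group G] (φ : M n →* G) (h : φ (z n) ≠ 1) :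
    Function.Injective φ := by
  rw [← MonoidHom.ker_eq_bot_iff]
  by_contra hk
  obtain ⟨g, hg, hg1, hg2, -⟩ := CL.PGrp.exists_mem_center_of_normal (isPGroup n) φ.ker hk
  rcases (mem_center_iff hn).1 hg2 with rfl | rfl
  · exact hg1 rfl
  · exact h hg

/-! ### The linear characters -/

/-- Parity. -/
def par (hn : 1 ≤ n) : ZMod (2 ^ n) →+* ZMod 2 :=
  ZMod.castHom (dvd_pow_self 2 (by omega)) (ZMod 2)

theorem par_add_self (hn : 1 ≤ n) (a : ZMod (2 ^ n)) : par hn (a + a) = 0 := by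
  rw [map_add]; exact CharTwo.add_self_eq_zero _

theorem par_neg (hn : 1 ≤ n) (a : ZMod (2 ^ n)) : par hn (-a) = par hn a := by
  rw [map_neg]; exact CharTwo.neg_eq _

theorem par_eq_zero_iff (hn : 1 ≤ n) {a : ZMod (2 ^ n)} : par hn a = 0 ↔ ∃ b, a = b + b := by
  refine ⟨fun h => ?_, by rintro ⟨b, rfl⟩; exact par_add_self hn b⟩
  rcases even_or_odd' a with h1 | ⟨b, rfl⟩
  · exact h1
  · rw [map_add, par_add_self, map_one] at h; exact absurd h (by decide)

theorem par_eq_one_iff (hn : 1 ≤ n) {a : ZMod (2 ^ n)} : par hn a = 1 ↔ ∃ b, a = b + b + 1 := by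
  refine ⟨fun h => ?_, by rintro ⟨b, rfl⟩; rw [map_add, par_add_self, map_one, zero_add]⟩
  rcases even_or_odd' a with ⟨b, rfl⟩ | h1
  · rw [par_add_self] at h; exact absurd h (by decide)
  · exact h1

theorem par_hf (hn : 2 ≤ n) : par (by omega : 1 ≤ n) (hf n) = 0 := by
  rw [← qt_add_qt hn, par_add_self]

/-- `0` or `1`. -/
def bz (b : Bool) : ZMod 2 := cond b 1 0

@[simp] theorem bz_false : bz false = 0 := rfl
@[simp] theorem bz_true : bz true = 1 := rfl

/-- The linear character with `a, b ↦ α`, `t ↦ τ`, `u ↦ μ`. -/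
def chi (hn : 1 ≤ n) (α τ μ : ZMod 2) : M n →* Multiplicative (ZMod 2) :=
  MonoidHom.mk' (fun g => Multiplicative.ofAdd (α * par hn (g.x + g.y) + τ * bz g.e + μ * bz g.f)) (by
    rintro ⟨x, y, _ | _, _ | _⟩ ⟨x', y', _ | _, _ | _⟩ <;>
      simp only [mk_mul_mk, px_ff, px_ft, px_tf, px_tt, ← ofAdd_add, map_add, par_neg, Bool.xor_false,
        Bool.xor_true, Bool.not_true, Bool.not_false, bz_false, bz_true] <;>
      generalize par hn x = a <;> generalize par hn y = b <;> generalize par hn x' = c <;>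
      generalize par hn y' = d <;> revert a b c d α τ μ <;> decide)

theorem chi_eq_one_iff (hn : 1 ≤ n) (α τ μ : ZMod 2) (g : M n) :
    chi hn α τ μ g = 1 ↔ α * par hn (g.x + g.y) + τ * bz g.e + μ * bz g.f = 0 := Iff.rfl

/-! ### Involutions -/

theorem isConj_u {w : M n} (hw : w * w = 1) (he : w.e = false) (hf' : w.f = true) : IsConj w (u n) := by
  rcases w with ⟨x, y, e, f⟩
  simp only at he hf'
  subst he hf'
  simp only [mk_mul_mk, px_ft, mk_eq_one] at hw
  exact isConj_iff.2 ⟨⟨0, x, false, false⟩, by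
    simp only [u, mk_mul_mk, inv_mk, px_ff, px_ft, mk.injEq, Bool.false_xor]
    exact ⟨by ring, by linear_combination hw.1, trivial, rfl⟩⟩

theorem isConj_tu {w : M n} (hw : w * w = 1) (he : w.e = true) (hf' : w.f = true) :
    IsConj w (t n * u n) := by
  rcases w with ⟨x, y, e, f⟩
  simp only at he hf'
  subst he hf'
  simp only [mk_mul_mk, px_tt, mk_eq_one] at hw
  exact isConj_iff.2 ⟨⟨0, -x, false, false⟩, by
    simp only [u, t, mk_mul_mk, inv_mk, px_ff, px_tt, px_tf, mk.injEq, Bool.false_xor]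
    exact ⟨by ring, by linear_combination -hw.1, trivial, rfl⟩⟩

/-- `z` is the square of an element centralising a given involution of the central product of the two
quaternion groups. -/
theorem exists_sq_eq_z (hn : 2 ≤ n) {w : M n} (hw : w * w = 1)
    (hp : par (by omega : 1 ≤ n) (w.x + w.y) = 0) : ∃ c : M n, c * w = w * c ∧ c * c = z n := by
  have h1 := qt_add_qt hn
  have h2 := hf_add_hf (by omega : 1 ≤ n)
  rcases w with ⟨x, y, _ | _, _ | _⟩
  · exact ⟨⟨qt n, qt n, false, false⟩, by simp [add_comm], by simp [z, h1]⟩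
  · exact ⟨⟨qt n, qt n, false, false⟩, by simp [add_comm], by simp [z, h1]⟩
  · obtain ⟨b, hb⟩ := (par_eq_zero_iff _).1 hp
    simp only at hb
    refine ⟨⟨b - y + hf n, y - b, false, true⟩, ?_, ?_⟩ <;>
      simp only [z, mk_mul_mk, px_ft, px_tf, mk.injEq]
    · exact ⟨by linear_combination h2 - hb, by linear_combination hb, rfl, rfl⟩
    · exact ⟨by ring, by ring, rfl, rfl⟩
  · refine ⟨⟨qt n, -qt n, false, false⟩, by simp [add_comm], ?_⟩
    simp only [z, mk_mul_mk, px_ff, mk.injEq]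
    exact ⟨h1, by linear_combination -h1 - h2, rfl, rfl⟩

/-- Involutions outside the central product of the two quaternion groups lie in `A t`. -/
theorem e_f_of_par_ne (hn : 2 ≤ n) {w : M n} (hw : w * w = 1)
    (hp : par (by omega : 1 ≤ n) (w.x + w.y) ≠ 0) : w.e = true ∧ w.f = false := by
  have hn1 : 1 ≤ n := by omega
  rcases w with ⟨x, y, _ | _, _ | _⟩ <;>
    simp only [mk_mul_mk, px_ff, px_ft, px_tf, px_tt, mk_eq_one] at hw <;> simp only at hp
  · refine absurd ?_ hp
    rw [add_self_eq_zero_iff' hn1, add_self_eq_zero_iff' hn1] at hw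
    rcases hw with ⟨rfl | rfl, rfl | rfl, -⟩ <;> simp [par_hf hn]
  · exact absurd (by rw [hw.1, map_zero]) hp
  · exact ⟨rfl, rfl⟩
  · refine absurd ?_ hp
    rw [show x = y by linear_combination hw.1, par_add_self]

/-- The involutions outside the central product of the two quaternion groups are conjugate. -/
theorem isConj_of_par_ne (hn : 2 ≤ n) {w : M n} (hw : w * w = 1)
    (hp : par (by omega : 1 ≤ n) (w.x + w.y) ≠ 0) : IsConj w ⟨1, 0, true, false⟩ := by
  obtain ⟨he, hf'⟩ := e_f_of_par_ne hn hw hp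
  rcases w with ⟨x, y, e, f⟩
  simp only at he hf' hp
  subst he hf'
  rcases even_or_odd' x with ⟨a, rfl⟩ | ⟨a, rfl⟩ <;> rcases even_or_odd' y with ⟨b, rfl⟩ | ⟨b, rfl⟩
  · exact absurd (by rw [map_add, par_add_self, par_add_self, add_zero]) hp
  · exact isConj_iff.2 ⟨⟨-b, -a, false, true⟩, by simp; ring⟩
  · exact isConj_iff.2 ⟨⟨-a, -b, false, false⟩, by simp; ring⟩
  · refine absurd ?_ hp
    rw [show a + a + 1 + (b + b + 1) = (a + b + 1) + (a + b + 1) by ring, par_add_self]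

theorem z₁_comm (hn : 1 ≤ n) {w : M n} (hf' : w.f = false) : z₁ n * w = w * z₁ n := by
  rcases w with ⟨x, y, _ | _, f⟩ <;> simp only at hf' <;> subst hf' <;> simp [z₁, neg_hf hn, add_comm]

theorem z₂_comm (hn : 1 ≤ n) {w : M n} (hf' : w.f = false) : z₂ n * w = w * z₂ n := by
  rcases w with ⟨x, y, _ | _, f⟩ <;> simp only at hf' <;> subst hf' <;> simp [z₂, neg_hf hn, add_comm]

/-- The centraliser of an element of `A t` has exponent four. -/
theorem pow_four_of_comm {w c : M n} (he : w.e = true) (hf' : w.f = false) (h : c * w = w * c) :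
    c ^ 4 = 1 := by
  have h1 : (c * c) * w = w * (c * c) := by rw [mul_assoc, h, ← mul_assoc, h, mul_assoc]
  rw [show c ^ 4 = (c * c) * (c * c) by simp [pow_succ, mul_assoc]]
  have h2 := sq_e c
  have h3 := sq_f c
  generalize c * c = d at h1 h2 h3
  rcases w with ⟨x, y, e, f⟩
  rcases d with ⟨a, b, e', f'⟩
  simp only at he hf' h2 h3
  subst he hf' h2 h3
  simp only [mk_mul_mk, px_ff, px_tf, mk.injEq] at h1
  simp only [mk_mul_mk, px_ff, mk_eq_one]
  exact ⟨by linear_combination h1.1, by linear_combination h1.2.1, rfl, rfl⟩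

theorem le_two_of_four_eq_zero (h : ((4 : ℕ) : ZMod (2 ^ n)) = 0) : n ≤ 2 := by
  rw [ZMod.natCast_eq_zero_iff] at h
  exact (Nat.pow_dvd_pow_iff_le_right (by norm_num)).1 (show 2 ^ n ∣ 2 ^ 2 from h)

/-! ### The presentation -/

section lift

variable {G : Type*} [Group G]

theorem pow_val_add {a : G} (ha : a ^ 2 ^ n = 1) (x y : ZMod (2 ^ n)) :
    a ^ (x + y).val = a ^ x.val * a ^ y.val := by
  rw [ZMod.val_add, ← pow_eq_pow_mod _ ha, pow_add]

theorem pow_val_neg {a : G} (ha : a ^ 2 ^ n = 1) (x : ZMod (2 ^ n)) :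
    a ^ (-x).val = (a ^ x.val)⁻¹ := by
  rw [eq_inv_iff_mul_eq_one, ← pow_val_add ha, neg_add_cancel, ZMod.val_zero, pow_zero]

theorem pow_val_natCast {a : G} (ha : a ^ 2 ^ n = 1) (k : ℕ) :
    a ^ (k : ZMod (2 ^ n)).val = a ^ k := by
  rw [ZMod.val_natCast, ← pow_eq_pow_mod _ ha]

theorem exists_lift {a b t u : G} (ha : a ^ 2 ^ n = 1) (hab : a * b = b * a) (ht : t * t = 1)
    (hu : u * u = 1) (htu : t * u = u * t) (hta : t * a = a⁻¹ * t) (hua : u * a = b * u) :
    ∃ φ : M n →* G, (∀ i j : ℕ, φ ⟨i, j, false, false⟩ = a ^ i * b ^ j) ∧ φ (M.t n) = t ∧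
      φ (M.u n) = u := by
  have hub : u * b = a * u := by
    calc u * b = u * (b * u) * u := by rw [mul_assoc, mul_assoc, hu, mul_one]
      _ = a * u := by rw [← hua, ← mul_assoc, hu, one_mul]
  have hua' : SemiconjBy u a b := hua
  have hub' : SemiconjBy u b a := hub
  have hb : b ^ 2 ^ n = 1 := by
    have := hua'.pow_right (2 ^ n)
    rw [ha, SemiconjBy, mul_one, right_eq_mul] at this
    exact this
  have hta' : SemiconjBy t a a⁻¹ := hta
  have htb' : SemiconjBy t b b⁻¹ := by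
    have h1 : SemiconjBy (u * t * u) b b⁻¹ := (hua'.inv_right.mul_left hta').mul_left hub'
    rwa [← htu, mul_assoc, hu, mul_one] at h1
  have hc : ∀ i j : ℕ, Commute (a ^ i) (b ^ j) := fun i j => Commute.pow_pow hab i j
  let R : ZMod (2 ^ n) → ZMod (2 ^ n) → G := fun x y => a ^ x.val * b ^ y.val
  have hR : ∀ x y x' y', R x y * R x' y' = R (x + x') (y + y') := fun x y x' y' => by
    simp only [R, pow_val_add ha, pow_val_add hb, mul_assoc]
    rw [← mul_assoc (b ^ _), ← (hc _ _).eq, mul_assoc]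
  have hT : ∀ x y, t * R x y = R (-x) (-y) * t := fun x y => by
    simp only [R, pow_val_neg ha, pow_val_neg hb, ← inv_pow]
    exact (hta'.pow_right _).mul_right (htb'.pow_right _)
  have hU : ∀ x y, u * R x y = R y x * u := fun x y => by
    simp only [R]
    rw [(hc y.val x.val).eq]
    exact (hua'.pow_right _).mul_right (hub'.pow_right _)
  have hT' : ∀ x y g, t * (R x y * g) = R (-x) (-y) * (t * g) := fun x y g => by
    rw [← mul_assoc, hT, mul_assoc]
  have hU' : ∀ x y g, u * (R x y * g) = R y x * (u * g) := fun x y g => by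
    rw [← mul_assoc, hU, mul_assoc]
  have hR' : ∀ x y x' y' g, R x y * (R x' y' * g) = R (x + x') (y + y') * g := fun x y x' y' g => by
    rw [← mul_assoc, hR]
  have htt : ∀ g, t * (t * g) = g := fun g => by rw [← mul_assoc, ht, one_mul]
  have hut : ∀ g, u * (t * g) = t * (u * g) := fun g => by rw [← mul_assoc, ← htu, mul_assoc]
  have hR0 : R 0 0 = 1 := by simp [R]
  refine ⟨MonoidHom.mk' (fun g => R g.x g.y * (cond g.e t 1 * cond g.f u 1)) ?_, fun i j => ?_, ?_, ?_⟩
  · rintro ⟨x, y, _ | _, _ | _⟩ ⟨x', y', _ | _, _ | _⟩ <;>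
      simp [mul_assoc, hT, hU, hT', hU', hR, hR', htt, hut, ht, hu, ← htu]
  · simp [R, pow_val_natCast ha, pow_val_natCast hb, -ZMod.val_natCast]
  · simp [M.t, hR0]
  · simp [M.u, hR0]

end lift

end M

end CL.SylG2
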