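import Cfsg.Agent.SylG2.Fusion
import Cfsg.Agent.TwoFus.OddAut
import Cfsg.Agent.TwoFus.DQ

/-!
# The two quaternion subgroups of the Sylow 2-subgroup of type `G₂(q)`

They are strongly closed with respect to any group in which `z` is central.
-/

set_option autoImplicit false

namespace CL.SylG2

open Subgroup CL.Wr Cfsg CL.Transfer
open scoped Pointwise

namespace M

variable {n : ℕ}

theorem hf_add_hf' (n : ℕ) : hf n + hf n = 0 := by
  rcases n with _ | n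
  · exact Subsingleton.elim (α := ZMod 1) _ _
  · exact hf_add_hf (by omega)

theorem neg_hf' (n : ℕ) : -hf n = hf n := neg_eq_of_add_eq_zero_left (hf_add_hf' n)

/-- The automorphism `a ↦ a`, `b ↦ b⁻¹`, `t ↦ t`, `u ↦ t u`. -/
def tau (n : ℕ) : M n ≃* M n where
  toFun g := ⟨g.x, -g.y, xor g.e g.f, g.f⟩
  invFun g := ⟨g.x, -g.y, xor g.e g.f, g.f⟩
  left_inv := by rintro ⟨x, y, _ | _, _ | _⟩ <;> simp
  right_inv := by rintro ⟨x, y, _ | _, _ | _⟩ <;> simp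
  map_mul' := by
    rintro ⟨x, y, _ | _, _ | _⟩ ⟨x', y', _ | _, _ | _⟩ <;> simp [add_comm]

@[simp] theorem tau_mk (x y : ZMod (2 ^ n)) (e f : Bool) : tau n ⟨x, y, e, f⟩ = ⟨x, -y, xor e f, f⟩ := rfl

theorem tau_tau (g : M n) : tau n (tau n g) = g := (tau n).left_inv g

theorem tau_z : tau n (z n) = z n := by simp [z, neg_hf']

/-- The first quaternion subgroup. -/
def Q₁ (n : ℕ) : Subgroup (M n) where
  carrier := {g | g.e = g.f ∧ g.x - g.y = cond g.f (hf n) 0}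
  one_mem' := by simp
  mul_mem' := by
    have := hf_add_hf' n
    rintro ⟨x, y, _ | _, _ | _⟩ ⟨x', y', _ | _, _ | _⟩ ⟨h1, h2⟩ ⟨h3, h4⟩ <;> simp at h1 h2 h3 h4 ⊢ <;>
      first | linear_combination h2 + h4 | linear_combination h2 + h4 + this
  inv_mem' := by
    have := hf_add_hf' n
    rintro ⟨x, y, _ | _, _ | _⟩ ⟨h1, h2⟩ <;> simp at h1 h2 ⊢
    · linear_combination -h2
    · linear_combination -h2 - this

/-- The second quaternion subgroup. -/
def Q₂ (n : ℕ) : Subgroup (M n) := (Q₁ n).comap (tau n).toMonoidHom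

@[simp] theorem mk_mem_Q₁ {x y : ZMod (2 ^ n)} {e f : Bool} :
    (⟨x, y, e, f⟩ : M n) ∈ Q₁ n ↔ e = f ∧ x - y = cond f (hf n) 0 := Iff.rfl

theorem tau_mem_Q₁ {g : M n} : tau n g ∈ Q₁ n ↔ g ∈ Q₂ n := Iff.rfl

theorem tau_mem_Q₂ {g : M n} : tau n g ∈ Q₂ n ↔ g ∈ Q₁ n := by rw [← tau_mem_Q₁, tau_tau]

@[simp] theorem mk_mem_Q₂ {x y : ZMod (2 ^ n)} {e f : Bool} :
    (⟨x, y, e, f⟩ : M n) ∈ Q₂ n ↔ e = false ∧ x + y = cond f (hf n) 0 := by
  rw [← tau_mem_Q₁, tau_mk, mk_mem_Q₁, sub_neg_eq_add]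
  cases e <;> cases f <;> simp

theorem map_tau_Q₁ : (Q₁ n).map (tau n).toMonoidHom = Q₂ n := by
  ext g
  exact ⟨by rintro ⟨g, hg, rfl⟩; exact tau_mem_Q₂.2 hg, fun hg => ⟨tau n g, hg, tau_tau g⟩⟩

/-- The abelian subgroup of index four. -/
def A (n : ℕ) : Subgroup (M n) where
  carrier := {g | g.e = false ∧ g.f = false}
  one_mem' := ⟨rfl, rfl⟩
  mul_mem' := by rintro a b ⟨h1, h2⟩ ⟨h3, h4⟩; simp [h1, h2, h3, h4]
  inv_mem' := fun h => h

theorem mem_A {g : M n} : g ∈ A n ↔ g.e = false ∧ g.f = false := Iff.rfl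

theorem A_comm {g k : M n} (hg : g ∈ A n) (hk : k ∈ A n) : g * k = k * g := by
  rcases g with ⟨x, y, e, f⟩
  rcases k with ⟨x', y', e', f'⟩
  obtain ⟨rfl, rfl⟩ : e = false ∧ f = false := hg
  obtain ⟨rfl, rfl⟩ : e' = false ∧ f' = false := hk
  simp [add_comm]

/-- A generator of `A`. -/
def a (n : ℕ) : M n := ⟨1, 0, false, false⟩
/-- Generator of the cyclic maximal subgroup of `Q₁`. -/
def x₁ (n : ℕ) : M n := ⟨1, 1, false, false⟩
/-- The second generator of `Q₁`. -/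
def y₁ (n : ℕ) : M n := ⟨qt n, -qt n, true, true⟩
/-- Element of order four of `⟨x₁⟩`. -/
def J₁ (n : ℕ) : M n := ⟨qt n, qt n, false, false⟩
/-- Element of order four of `Q₂ ∩ A`. -/
def J₂ (n : ℕ) : M n := ⟨qt n, -qt n, false, false⟩

theorem tau_J₁ : tau n (J₁ n) = J₂ n := rfl
theorem tau_J₂ : tau n (J₂ n) = J₁ n := by rw [← tau_J₁, tau_tau]
theorem tau_a : tau n (a n) = a n := by simp [a]

theorem z_mem_Q₁ : z n ∈ Q₁ n := by simp [z]
theorem J₁_mem : J₁ n ∈ Q₁ n := by simp [J₁]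
theorem J₂_mem : J₂ n ∈ Q₂ n := by simp [J₂]
theorem x₁_mem : x₁ n ∈ Q₁ n := by simp [x₁]
theorem y₁_mem (hn : 2 ≤ n) : y₁ n ∈ Q₁ n := by simp [y₁, qt_add_qt hn]

theorem J₁_sq (hn : 2 ≤ n) : J₁ n * J₁ n = z n := by simp [J₁, z, qt_add_qt hn]

theorem J₂_sq (hn : 2 ≤ n) : J₂ n * J₂ n = z n := by rw [← tau_J₁, ← map_mul, J₁_sq hn, tau_z]

theorem J₁_mul_J₂ (hn : 2 ≤ n) : J₁ n * J₂ n = z₁ n := by simp [J₁, J₂, z₁, qt_add_qt hn]

theorem normal_Q₁ : (Q₁ n).Normal := ⟨by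
  have := hf_add_hf' n
  rintro ⟨x, y, _ | _, _ | _⟩ ⟨h1, h2⟩ ⟨x', y', _ | _, _ | _⟩ <;> simp at h1 h2 ⊢ <;>
    first | linear_combination h2 | linear_combination -h2 | linear_combination -h2 - this⟩

theorem Q_comm {g k : M n} (hg : g ∈ Q₁ n) (hk : k ∈ Q₂ n) : g * k = k * g := by
  have := hf_add_hf' n
  rcases g with ⟨x, y, _ | _, _ | _⟩ <;> rcases k with ⟨x', y', _ | _, _ | _⟩ <;> simp at hg hk ⊢
  · exact ⟨add_comm _ _, add_comm _ _⟩
  · exact ⟨by linear_combination hg, by linear_combination -hg⟩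
  · exact ⟨by linear_combination -hk, by linear_combination -hk⟩
  · exact ⟨by linear_combination hg - hk, by linear_combination -hg - hk - this⟩

theorem eq_of_mem_Q (hn : 1 ≤ n) {g : M n} (h1 : g ∈ Q₁ n) (h2 : g ∈ Q₂ n) : g = 1 ∨ g = z n := by
  rcases g with ⟨x, y, _ | _, _ | _⟩ <;> simp at h1 h2
  obtain rfl : x = y := by linear_combination h1
  rcases (add_self_eq_zero_iff' hn x).1 h2 with rfl | rfl <;> simp [z]

theorem mem_or_mem_of_sq (hn : 2 ≤ n) {w : M n} (hw : w * w = z n) : w ∈ Q₁ n ∨ w ∈ Q₂ n := by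
  have hn1 : 1 ≤ n := by omega
  have := hf_add_hf' n
  rcases w with ⟨x, y, _ | _, _ | _⟩ <;> simp [z] at hw ⊢
  · rcases (add_self_eq_add_self_iff hn1 x y).1 (hw.1.trans hw.2.symm) with h | h
    · left; linear_combination h
    · right; linear_combination h + hw.2 + this
  · exact hw.1
  · exact absurd hw.symm (hf_ne_zero hn1)
  · linear_combination hw.1

theorem eq_J₁_of_sq (hn : 2 ≤ n) {w : M n} (h : w ∈ Q₁ n) (hw : w * w = z n) (hf' : w.f = false) :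
    w = J₁ n ∨ w = J₁ n * z n := by
  rcases w with ⟨x, y, _ | _, _ | _⟩ <;> simp [z] at h hw hf'
  obtain rfl : x = y := by linear_combination h
  rcases (add_self_eq_add_self_iff (by omega) x (qt n)).1 (hw.1.trans (qt_add_qt hn).symm) with h | h <;>
    simp [J₁, z, h]

theorem eq_of_comm_Q₁ (hn : 2 ≤ n) {w w' : M n} (h : w ∈ Q₁ n) (h' : w' ∈ Q₁ n) (hw : w * w = z n)
    (hw' : w' * w' = z n) (hc : w * w' = w' * w) : w' = w ∨ w' = w * z n := by
  have hn1 : 1 ≤ n := by omega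
  have h0 := hf_add_hf' n
  have h1 := hf_ne_zero hn1
  rcases w with ⟨x, y, _ | _, _ | _⟩ <;> rcases w' with ⟨x', y', _ | _, _ | _⟩ <;>
    simp [z] at h h' hw hw' hc ⊢
  · obtain rfl : x = y := by linear_combination h
    obtain rfl : x' = y' := by linear_combination h'
    simpa using (add_self_eq_add_self_iff hn1 x' x).1 (hw'.1.trans hw.1.symm)
  · exact h1 (by linear_combination hc.1 - hw.1 + h)
  · exact h1 (by linear_combination -hc.1 - hw'.1 + h')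
  · rcases (add_self_eq_add_self_iff hn1 x' x).1 (by linear_combination -hc.1 + h' - h) with h2 | h2
    · exact Or.inl ⟨h2, by linear_combination h2 + h - h'⟩
    · exact Or.inr ⟨by linear_combination h2 + h0, by linear_combination h2 + h - h' + h0⟩

theorem eq_of_comm_Q₂ (hn : 2 ≤ n) {w w' : M n} (h : w ∈ Q₂ n) (h' : w' ∈ Q₂ n) (hw : w * w = z n)
    (hw' : w' * w' = z n) (hc : w * w' = w' * w) : w' = w ∨ w' = w * z n := by
  have := eq_of_comm_Q₁ hn (tau_mem_Q₁.2 h) (tau_mem_Q₁.2 h') (by rw [← map_mul, hw, tau_z])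
    (by rw [← map_mul, hw', tau_z]) (by rw [← map_mul, hc, map_mul])
  rwa [← tau_z, ← map_mul, (tau n).apply_eq_iff_eq, (tau n).apply_eq_iff_eq] at this

theorem eq_J₂_of_sq (hn : 2 ≤ n) {w : M n} (h : w ∈ Q₂ n) (hw : w * w = z n) (hf' : w.f = false) :
    w = J₂ n ∨ w = J₂ n * z n := by
  have := eq_J₁_of_sq hn (tau_mem_Q₁.2 h) (by rw [← map_mul, hw, tau_z]) hf'
  rwa [← tau_z, ← tau_J₂, ← map_mul, (tau n).apply_eq_iff_eq, (tau n).apply_eq_iff_eq] at this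

/-- The centraliser of a quaternion subgroup of order eight of `Q₂` is `Q₁`. -/
theorem mem_Q₁_of_comm (hn : 2 ≤ n) {w g : M n} (h : w ∈ Q₂ n) (hf' : w.f = true) (h1 : g * w = w * g)
    (h2 : g * J₂ n = J₂ n * g) : g ∈ Q₁ n := by
  have h3 := qt_add_qt hn
  have h4 := hf_ne_zero (by omega : 1 ≤ n)
  rcases w with ⟨x, y, _ | _, _ | _⟩ <;> rcases g with ⟨x', y', _ | _, _ | _⟩ <;>
    simp [J₂] at h hf' h1 h2 ⊢
  · linear_combination h1.1
  · exact h4 (by linear_combination -h2.1 - h3)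
  · exact h4 (by linear_combination -h2.1 - h3)
  · linear_combination h1.1 + h

theorem mem_A_of_comm (hn : 2 ≤ n) {g : M n} (h1 : g * J₁ n = J₁ n * g) (h2 : g * J₂ n = J₂ n * g) :
    g ∈ A n := by
  have h3 := qt_add_qt hn
  have h4 := hf_ne_zero (by omega : 1 ≤ n)
  rcases g with ⟨x', y', _ | _, _ | _⟩ <;> simp [J₁, J₂, mem_A] at h1 h2 ⊢
  · exact h4 (by linear_combination -h2.1 - h3)
  · exact h4 (by linear_combination -h2.1 - h3)
  · exact h4 (by linear_combination -h1.1 - h3)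

theorem exists_eq_mul_qt (hn : 2 ≤ n) {c : ZMod (2 ^ n)} (h : c + c = 0 ∨ c + c = hf n) :
    ∃ i : ℕ, c = i * qt n := by
  have hn1 : 1 ≤ n := by omega
  have h3 := qt_add_qt hn
  rcases h with h | h
  · rcases (add_self_eq_zero_iff' hn1 c).1 h with h | h
    · exact ⟨0, by simp [h]⟩
    · exact ⟨2, by push_cast; linear_combination h - h3⟩
  · rcases (add_self_eq_add_self_iff hn1 c (qt n)).1 (h.trans h3.symm) with h | h
    · exact ⟨1, by simp [h]⟩
    · exact ⟨3, by push_cast; linear_combination h - h3⟩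

theorem exists_eq_pow_mul (hn : 2 ≤ n) {w d : M n} (h : w ∈ Q₁ n) (hf' : w.f = true) (hd : d ∈ Q₁ n)
    (hc : w * d = d * w ∨ w * d = d * w * z n) : ∃ i j : ℕ, d = J₁ n ^ i * w ^ j := by
  have h0 := hf_add_hf' n
  rcases w with ⟨x, y, _ | _, _ | _⟩ <;> rcases d with ⟨x', y', _ | _, _ | _⟩ <;>
    simp [z] at h hf' hd hc
  · obtain ⟨i, hi⟩ := exists_eq_mul_qt hn (c := x')
      (hc.imp (fun h => by linear_combination -h.1 + hd) fun h => by linear_combination -h.1 + hd)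
    exact ⟨i, 0, by simp [J₁, r_pow, ← hi]; linear_combination -hd⟩
  · obtain ⟨i, hi⟩ := exists_eq_mul_qt hn (c := x' - x)
      (hc.imp (fun h1 => by linear_combination -h1.1 + hd - h)
        fun h1 => by linear_combination -h1.1 + hd - h - h0)
    exact ⟨i, 1, by simp [J₁, r_pow, ← hi]; linear_combination h - hd⟩

theorem J₁_comm_or (hn : 2 ≤ n) (g : M n) : J₁ n * g = g * J₁ n ∨ J₁ n * g = g * J₁ n * z n := by
  have h3 := qt_add_qt hn
  have h0 := hf_add_hf' n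
  rcases g with ⟨x', y', _ | _, _ | _⟩ <;> simp [J₁, z, add_comm]
  · exact Or.inr ⟨by linear_combination h3 + h0, by linear_combination h3 + h0⟩
  · exact Or.inr ⟨by linear_combination h3 + h0, by linear_combination h3 + h0⟩

theorem J₂_comm_or (hn : 2 ≤ n) (g : M n) : J₂ n * g = g * J₂ n ∨ J₂ n * g = g * J₂ n * z n := by
  have := J₁_comm_or hn (tau n g)
  rwa [← tau_z, ← tau_J₂, ← map_mul, ← map_mul, ← map_mul, (tau n).apply_eq_iff_eq,
    (tau n).apply_eq_iff_eq] at this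

/-! ### Automorphisms of odd order fixing `z` -/

section loc

open CL.Fus

variable {D : Subgroup (M n)} {φ : M n → M n}

/-- Elements of order four with square `z` that are central in `D` modulo `z`. -/
def XS (D : Subgroup (M n)) (w : M n) : Prop :=
  w ∈ D ∧ w * w = z n ∧ ∀ d ∈ D, w * d = d * w ∨ w * d = d * w * z n

theorem XS.z_mem {w : M n} (hw : XS D w) : z n ∈ D := hw.2.1 ▸ mul_mem hw.1 hw.1

theorem XS.map (h : OddAut D φ) (hz : φ (z n) = z n) {w : M n} (hw : XS D w) : XS D (φ w) := by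
  refine ⟨h.maps w hw.1, by rw [← h.mul w hw.1 w hw.1, hw.2.1, hz], fun d hd => ?_⟩
  obtain ⟨d, hd', rfl⟩ := h.surj hd
  rw [← h.mul w hw.1 d hd', ← h.mul d hd' w hw.1, ← hz, ← h.mul _ (mul_mem hd' hw.1) _ hw.z_mem]
  exact (hw.2.2 d hd').imp (congrArg φ) (congrArg φ)

theorem XS.not_mem_iff (hn : 2 ≤ n) {w : M n} (hw : XS D w) : w ∉ Q₁ n ↔ w ∈ Q₂ n := by
  refine ⟨(mem_or_mem_of_sq hn hw.2.1).resolve_left, fun h2 h1 => ?_⟩
  have h3 := hw.2.1
  rcases eq_of_mem_Q (by omega) h1 h2 with rfl | rfl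
  · exact z_ne_one (n := n) (by omega) (by rw [← h3, mul_one])
  · exact z_ne_one (n := n) (by omega) (by rw [← h3, z_mul_z (by omega)])

theorem XS.side_iff (hn : 2 ≤ n) {w w' : M n} (hw : XS D w) (hw' : XS D w') :
    (w ∈ Q₁ n ↔ w' ∈ Q₁ n) ↔ (w * w' = w' * w → w' = w ∨ w' = w * z n) := by
  constructor
  · intro h hc
    by_cases h1 : w ∈ Q₁ n
    · exact eq_of_comm_Q₁ hn h1 (h.1 h1) hw.2.1 hw'.2.1 hc
    · exact eq_of_comm_Q₂ hn ((hw.not_mem_iff hn).1 h1) ((hw'.not_mem_iff hn).1 (h.not.1 h1)) hw.2.1 hw'.2.1 hc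
  · intro h
    by_contra h1
    have hc : w * w' = w' * w := by
      by_cases h2 : w ∈ Q₁ n
      · exact Q_comm h2 ((hw'.not_mem_iff hn).1 fun h3 => h1 (iff_of_true h2 h3))
      · exact (Q_comm (by by_contra h3; exact h1 (iff_of_false h2 h3)) ((hw.not_mem_iff hn).1 h2)).symm
    rcases h hc with rfl | rfl
    · exact h1 Iff.rfl
    · exact h1 (mul_mem_cancel_right z_mem_Q₁).symm

theorem XS.map_mem_iff (hn : 2 ≤ n) (h : OddAut D φ) (hz : φ (z n) = z n) {w : M n} (hw : XS D w) :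
    φ w ∈ Q₁ n ↔ w ∈ Q₁ n := by
  have key : ∀ w', XS D w' → ((φ w ∈ Q₁ n ↔ φ w' ∈ Q₁ n) ↔ (w ∈ Q₁ n ↔ w' ∈ Q₁ n)) := fun w' hw' => by
    rw [(hw.map h hz).side_iff hn (hw'.map h hz), hw.side_iff hn hw', h.comm_iff hw.1 hw'.1, ← hz,
      ← h.mul _ hw.1 _ hw.z_mem, hz]
    refine imp_congr_right fun _ => or_congr ⟨h.inj hw'.1 hw.1, congrArg φ⟩
      ⟨h.inj hw'.1 (mul_mem hw.1 hw.z_mem), congrArg φ⟩
  by_contra hne
  have h1 : ∀ k : ℕ, XS D (φ^[k] w) ∧ (φ^[k] w ∈ Q₁ n ↔ (w ∈ Q₁ n ↔ Even k)) := fun k => by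
    induction k with
    | zero => exact ⟨hw, by simp⟩
    | succ k ih =>
      rw [Function.iterate_succ_apply', Nat.even_add_one]
      have := key _ ih.1
      exact ⟨ih.1.map h hz, by tauto⟩
  obtain ⟨m, hm, hm'⟩ := h.odd
  have h2 := (h1 m).2
  rw [hm' w hw.1] at h2
  have := Nat.not_even_iff_odd.2 hm
  tauto

theorem XS.exists_map_eq (hn : 2 ≤ n) (h : OddAut D φ) (hz : φ (z n) = z n) {w : M n} (hw : XS D w)
    (h2 : w ∈ Q₂ n) : ∃ w', w' ∈ D ∧ w' ∈ Q₂ n ∧ φ w' = w := by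
  have h1 : ∀ k : ℕ, XS D (φ^[k] w) ∧ φ^[k] w ∉ Q₁ n := fun k => by
    induction k with
    | zero => exact ⟨hw, (hw.not_mem_iff hn).2 h2⟩
    | succ k ih =>
      rw [Function.iterate_succ_apply']
      exact ⟨ih.1.map h hz, (ih.1.map_mem_iff hn h hz).not.2 ih.2⟩
  obtain ⟨m, ⟨k, rfl⟩, hm'⟩ := h.odd
  exact ⟨_, (h1 (2 * k)).1.1, ((h1 _).1.not_mem_iff hn).1 (h1 _).2, by
    rw [← Function.iterate_succ_apply' φ]; exact hm' w hw.1⟩

theorem comm_inv_mul (hn : 1 ≤ n) {j d e : M n}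
    (h : (j * d = d * j ∧ j * e = e * j) ∨ (j * d = d * j * z n ∧ j * e = e * j * z n)) :
    d⁻¹ * e * j = j * (d⁻¹ * e) := by
  rcases h with ⟨h1, h2⟩ | ⟨h1, h2⟩
  · exact ((Commute.inv_right h1).mul_right h2).symm
  · have h3 : e * j = j * e * z n := by rw [h2, mul_assoc, z_mul_z hn, mul_one]
    have h4 : d⁻¹ * j = j * z n * d⁻¹ := by
      rw [inv_mul_eq_iff_eq_mul, ← mul_assoc, ← mul_assoc, ← h1, mul_inv_cancel_right]
    rw [mul_assoc, h3, ← mul_assoc, ← mul_assoc, h4, z_comm hn, z_comm hn j, ← mul_assoc, ← mul_assoc,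
      ← mul_assoc, z_mul_z hn, one_mul, mul_assoc]

theorem fix_of_fix_J (hn : 2 ≤ n) (h : OddAut D φ) (h1 : J₁ n ∈ D) (h2 : J₂ n ∈ D)
    (e1 : φ (J₁ n) = J₁ n) (e2 : φ (J₂ n) = J₂ n) {d : M n} (hd : d ∈ D) : φ d = d := by
  have hn1 : 1 ≤ n := by omega
  have hD := (isPGroup n).to_subgroup D
  have hzD : z n ∈ D := J₁_sq hn ▸ mul_mem h1 h1
  have hz : φ (z n) = z n := by rw [← J₁_sq hn, h.mul _ h1 _ h1, e1]
  have hz₁ : φ (z₁ n) = z₁ n := by rw [← J₁_mul_J₂ hn, h.mul _ h1 _ h2, e1, e2]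
  have hA : OddAut (D ⊓ A n) φ := h.restrict inf_le_left fun x hx => ⟨h.maps x hx.1, mem_A_of_comm hn
    (by rw [← e1, h.comm_iff hx.1 h1]; exact A_comm hx.2 ⟨rfl, rfl⟩)
    (by rw [← e2, h.comm_iff hx.1 h2]; exact A_comm hx.2 ⟨rfl, rfl⟩)⟩
  have hfix : ∀ x ∈ D ⊓ A n, φ x = x := fun x hx =>
    hA.fix_of_comm_of_fix_involutions ((isPGroup n).to_subgroup _) (fun x hx y hy => A_comm hx.2 hy.2)
      (fun x hx hx2 => by
        rcases eq_of_mem_A hn1 hx2 hx.2.1 hx.2.2 with rfl | rfl | rfl | rfl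
        · exact h.map_one
        · exact hz
        · exact hz₁
        · have h3 : z₂ n = z₁ n * z n := by rw [← z₁_mul_z₂, ← mul_assoc, z₁_mul_z₁ hn1, one_mul]
          rw [h3, h.mul _ (J₁_mul_J₂ hn ▸ mul_mem h1 h2) _ hzD, hz₁, hz]) hx
  have key : ∀ j ∈ D, φ j = j → (j * d = d * j ∨ j * d = d * j * z n) →
      d⁻¹ * φ d * j = j * (d⁻¹ * φ d) := fun j hj e hc => comm_inv_mul hn1 (hc.imp
    (fun hc => ⟨hc, by rw [← e, h.comm_iff hj hd, hc]⟩)
    fun hc => ⟨hc, by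
      have := congrArg φ hc
      rwa [h.mul _ hj _ hd, h.mul _ (mul_mem hd hj) _ hzD, h.mul _ hd _ hj, e, hz] at this⟩)
  exact h.fix_of_trivial_mod hD hfix hd (mem_inf.2 ⟨mul_mem (inv_mem hd) (h.maps d hd),
    mem_A_of_comm hn (key _ h1 e1 (J₁_comm_or hn d)) (key _ h2 e2 (J₂_comm_or hn d))⟩)

/-- An automorphism of odd order of a subgroup containing `Z₂(S)` which fixes `z` respects `Q₁`. -/
theorem map_mem_Q₁ (hn : 2 ≤ n) (h : OddAut D φ) (hz : φ (z n) = z n) (h1 : J₁ n ∈ D) (h2 : J₂ n ∈ D)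
    {d : M n} (hd : d ∈ D) (hq : d ∈ Q₁ n) : φ d ∈ Q₁ n := by
  have hD := (isPGroup n).to_subgroup D
  have X1 : XS D (J₁ n) := ⟨h1, J₁_sq hn, fun d _ => J₁_comm_or hn d⟩
  have X2 : XS D (J₂ n) := ⟨h2, J₂_sq hn, fun d _ => J₂_comm_or hn d⟩
  by_cases hA : ∃ w, XS D w ∧ w ∈ Q₂ n ∧ w.f = true
  · obtain ⟨w, hw, hw2, hw3⟩ := hA
    have key : ∀ w, XS D w → w ∈ Q₂ n → φ d * w = w * φ d := fun w hw hw2 => by
      obtain ⟨w', h3, h4, rfl⟩ := hw.exists_map_eq hn h hz hw2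
      exact (h.comm_iff hd h3).2 (Q_comm hq h4)
    exact mem_Q₁_of_comm hn hw2 hw3 (key w hw hw2) (key _ X2 J₂_mem)
  by_cases hB : ∃ w, XS D w ∧ w ∈ Q₁ n ∧ w.f = true
  · obtain ⟨w, hw, hw2, hw3⟩ := hB
    obtain ⟨i, j, rfl⟩ := exists_eq_pow_mul hn hw2 hw3 hq (hw.2.2 d hd)
    rw [h.mul _ (pow_mem h1 i) _ (pow_mem hw.1 j), h.map_pow h1, h.map_pow hw.1]
    exact mul_mem (pow_mem ((X1.map_mem_iff hn h hz).2 J₁_mem) i) (pow_mem ((hw.map_mem_iff hn h hz).2 hw2) j)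
  have m1 := (X1.map_mem_iff hn h hz).2 J₁_mem
  have m2 := ((X2.map h hz).not_mem_iff hn).1
    ((X2.map_mem_iff hn h hz).not.2 ((X2.not_mem_iff hn).2 J₂_mem))
  have e1 : φ (J₁ n) = J₁ n := h.fix_of_mem_zpowers hD h1 (by
    rcases eq_J₁_of_sq hn m1 (X1.map h hz).2.1
      (by by_contra h3; exact hB ⟨_, X1.map h hz, m1, by simpa using h3⟩) with h3 | h3 <;> rw [h3]
    · exact mem_zpowers _
    · rw [← J₁_sq hn]; exact mul_mem (mem_zpowers _) (mul_mem (mem_zpowers _) (mem_zpowers _)))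
  have e2 : φ (J₂ n) = J₂ n := h.fix_of_mem_zpowers hD h2 (by
    rcases eq_J₂_of_sq hn m2 (X2.map h hz).2.1
      (by by_contra h3; exact hA ⟨_, X2.map h hz, m2, by simpa using h3⟩) with h3 | h3 <;> rw [h3]
    · exact mem_zpowers _
    · rw [← J₂_sq hn]; exact mul_mem (mem_zpowers _) (mul_mem (mem_zpowers _) (mem_zpowers _)))
  rwa [fix_of_fix_J hn h h1 h2 e1 e2 hd]

end loc

end M

namespace Emb

open M CL.Fus

variable {G : Type*} [Group G] {S : Sylow 2 G} {n : ℕ} {ι : M n →* G} (h : Emb S ι)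
include h

theorem comp_tau : Emb S (ι.comp (tau n).toMonoidHom) :=
  ⟨h.two_le, h.inj.comp (tau n).injective, by
    rw [MonoidHom.range_comp, MonoidHom.range_eq_top.2 (tau n).surjective, ← MonoidHom.range_eq_map, h.range]⟩

variable [Finite G]

/-- Essential subgroups contain the second centre. -/
theorem mem_of_isEssential (hz : ι (z n) ∈ center G) {D : Subgroup G} (hD : IsEssential S D) {j : M n}
    (hj : ∀ g, j * g = g * j ∨ j * g = g * j * z n) : ι j ∈ D := by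
  have hzc := mem_center_iff.1 hz
  have hz2 : ι (z n) * ι (z n) = 1 := by rw [← map_mul, z_mul_z h.one_le, map_one]
  have hzD : ι (z n) ∈ D := hD.inf_centralizer_le ⟨h.mem _, fun d _ => hzc d⟩
  let K : Subgroup G :=
    { carrier := {g | ∀ d ∈ D, g * d * g⁻¹ = d ∨ g * d * g⁻¹ = d * ι (z n)}
      one_mem' := fun d _ => Or.inl (by simp)
      mul_mem' := fun {a b} ha hb d hd => by
        rw [show a * b * d * (a * b)⁻¹ = a * (b * d * b⁻¹) * a⁻¹ by group]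
        rcases hb d hd with e | e <;> rw [e]
        · exact ha d hd
        · rw [← mul_assoc, mul_assoc _ _ a⁻¹, ← hzc, ← mul_assoc]
          rcases ha d hd with e | e <;> rw [e]
          · exact Or.inr rfl
          · exact Or.inl (by rw [mul_assoc, hz2, mul_one])
      inv_mem' := fun {a} ha d hd => (ha d hd).imp (fun e => by
          conv_lhs => rw [← e]
          group) fun e => by
        have : d = a * d * a⁻¹ * ι (z n) := by rw [e, mul_assoc, hz2, mul_one]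
        rw [this, mul_assoc a⁻¹, inv_inv, mul_assoc _ _ a, ← hzc, ← this]
        group }
  have hKN : K ≤ normalizer (D : Set G) := fun g hg => mem_normalizer_of_conj_smul_le
    (conj_smul_le_iff.2 fun d hd => by
      rcases hg d hd with e | e <;> rw [e]
      exacts [hd, mul_mem hd hzD])
  have hNK : normalizer (D : Set G) ≤ normalizer (K : Set G) := fun x hx => mem_normalizer_of_conj_smul_le
    (conj_smul_le_iff.2 fun g hg d hd => by
      have h1 := hg _ ((mem_normalizer_iff.1 (inv_mem hx) d).1 hd)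
      rw [show x * g * x⁻¹ * d * (x * g * x⁻¹)⁻¹ = x * (g * (x⁻¹ * d * x⁻¹⁻¹) * g⁻¹) * x⁻¹ by group]
      refine h1.imp (fun e => by rw [e]; group) fun e => ?_
      rw [e, ← mul_assoc, mul_assoc _ _ x⁻¹, ← hzc]
      group)
  have hjK : ι j ∈ K := fun d hd => by
    obtain ⟨d, rfl⟩ := h.exists_eq (hD.1.1 hd)
    rw [← map_mul, ← map_inv, ← map_mul, ← map_mul]
    refine (hj d).imp (fun e => by rw [e, mul_inv_cancel_right]) fun e => ?_
    rw [e, z_comm h.one_le, mul_assoc, mul_inv_cancel_right, z_comm h.one_le]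
  have hK : K ≤ ((S : Subgroup G) ⊓ normalizer (D : Set G)) ⊔ centralizer (D : Set G) :=
    le_of_isSylowIn_of_coprime (hD.1.2.inf_normal hKN hNK) (inf_le_left.trans le_sup_left) fun g hg ho => by
      refine mem_sup_right fun d hd => ?_
      have h1 : g * g * d = d * (g * g) := by
        rw [← mul_inv_eq_iff_eq_mul, show g * g * d * (g * g)⁻¹ = g * (g * d * g⁻¹) * g⁻¹ by group]
        rcases hg d hd with e | e
        · rw [e, e]
        · rw [e, ← mul_assoc, mul_assoc _ _ g⁻¹, ← hzc, ← mul_assoc, e, mul_assoc, hz2, mul_one]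
      obtain ⟨k, hk⟩ := Nat.coprime_two_right.1 ho
      have h2 : g = ((g * g) ^ k)⁻¹ := by
        rw [eq_inv_iff_mul_eq_one, ← sq, ← pow_mul, ← pow_succ', ← hk, pow_orderOf_eq_one]
      rw [h2]
      exact (Commute.pow_left h1 k).inv_left.symm
  have := hD.eq_of_le (K := D ⊔ K) (U := D ⊔ zpowers (ι j))
    ((le_inf le_rfl hNK).trans (normalizer_inf_le_normalizer_sup _ _))
    (sup_le ((le_inf hD.1.1 le_normalizer).trans le_sup_left) hK)
    (S.isPGroup'.to_le (sup_le hD.1.1 (zpowers_le.2 (h.mem j)))) le_sup_left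
    (sup_le_sup_left (zpowers_le.2 hjK) _)
  exact this ▸ mem_sup_right (mem_zpowers _)

omit [Finite G] in
theorem conj_mem_Q₁_of_odd (hz : ι (z n) ∈ center G) {D : Subgroup G} (hD : D ≤ S) (h1 : ι (J₁ n) ∈ D)
    (h2 : ι (J₂ n) ∈ D) {x : G} (hx : x ∈ normalizer (D : Set G)) (ho : Odd (orderOf x)) {d : G} (hd : d ∈ D)
    (hq : d ∈ (Q₁ n).map ι) : x * d * x⁻¹ ∈ (Q₁ n).map ι := by
  let φ : M n → M n := fun m => Function.invFun ι (x * ι m * x⁻¹)
  have hφ : ∀ m, ι m ∈ D → ι (φ m) = x * ι m * x⁻¹ := fun m hm =>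
    Function.invFun_eq (h.exists_eq (hD ((mem_normalizer_iff.1 hx _).1 hm)))
  have hmaps : ∀ m, ι m ∈ D → ι (φ m) ∈ D := fun m hm => by
    rw [hφ m hm]; exact (mem_normalizer_iff.1 hx _).1 hm
  have hA : OddAut (D.comap ι) φ := ⟨hmaps, fun a ha b hb => h.inj (by
    rw [map_mul, hφ a ha, hφ b hb, hφ _ (mul_mem ha hb), map_mul]; group), orderOf x, ho, fun m hm => h.inj (by
      have : ∀ k : ℕ, ι (φ^[k] m) ∈ D ∧ ι (φ^[k] m) = x ^ k * ι m * (x ^ k)⁻¹ := fun k => by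
        induction k with
        | zero => exact ⟨hm, by simp⟩
        | succ k ih =>
          rw [Function.iterate_succ_apply']
          exact ⟨hmaps _ ih.1, by rw [hφ _ ih.1, ih.2, pow_succ']; group⟩
      rw [(this _).2, pow_orderOf_eq_one]; simp)⟩
  obtain ⟨d, hq, rfl⟩ := hq
  have hzD : ι (z n) ∈ D := by rw [← J₁_sq h.two_le, map_mul]; exact mul_mem h1 h1
  exact ⟨φ d, map_mem_Q₁ h.two_le hA (h.inj (by
    rw [hφ _ hzD, mem_center_iff.1 hz x, mul_inv_cancel_right])) h1 h2 hd hq, hφ d hd⟩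

/-- `Q₁` is strongly closed when `z` is central. -/
theorem stronglyClosed_Q₁ (hz : ι (z n) ∈ center G) : IsStronglyClosed ((Q₁ n).map ι) (S : Subgroup G) := by
  have hS : ∀ s ∈ (S : Subgroup G), ∀ d ∈ (Q₁ n).map ι, s * d * s⁻¹ ∈ (Q₁ n).map ι := by
    rintro s hs _ ⟨d, hd, rfl⟩
    obtain ⟨s, rfl⟩ := h.exists_eq hs
    exact ⟨_, normal_Q₁.conj_mem d hd s, by simp⟩
  have key : ∀ D : Subgroup G, IsExtremal S D → ι (J₁ n) ∈ D → ι (J₂ n) ∈ D →
      ∀ x ∈ normalizer (D : Set G), ∀ d ∈ D, (x * d * x⁻¹ ∈ (Q₁ n).map ι) = (d ∈ (Q₁ n).map ι) := by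
    intro D hD h1 h2
    have : normalizer (D : Set G) ≤ normalizer ((D ⊓ (Q₁ n).map ι : Subgroup G) : Set G) :=
      le_of_isSylowIn_of_coprime hD.2
        (fun x hx => mem_normalizer_of_conj_smul_le (conj_smul_le_iff.2 fun d hd =>
          ⟨(mem_normalizer_iff.1 hx.2 d).1 hd.1, hS x hx.1 d hd.2⟩))
        fun x hx hc => mem_normalizer_of_conj_smul_le (conj_smul_le_iff.2 fun d hd =>
          ⟨(mem_normalizer_iff.1 hx d).1 hd.1,
            h.conj_mem_Q₁_of_odd hz hD.1 h1 h2 hx (Nat.coprime_two_right.1 hc) hd.1 hd.2⟩)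
    intro x hx d hd
    have h3 := mem_normalizer_iff.1 (this hx) d
    simp only [mem_inf] at h3
    exact propext ⟨fun h4 => (h3.2 ⟨(mem_normalizer_iff.1 hx d).1 hd, h4⟩).2, fun h4 => (h3.1 ⟨hd, h4⟩).2⟩
  refine ⟨h.range ▸ map_le_range ι _, fun d hd g hg => ?_⟩
  exact (apply_conj_eq_of_essential S (· ∈ (Q₁ n).map ι) (key S (isExtremal_self S) (h.mem _) (h.mem _))
    (fun D x hD hx => key D hD.1 (h.mem_of_isEssential hz hD (J₁_comm_or h.two_le))
      (h.mem_of_isEssential hz hD (J₂_comm_or h.two_le)) x hx) d g (h.range ▸ map_le_range ι _ hd) hg).mpr hd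

theorem stronglyClosed_Q₂ (hz : ι (z n) ∈ center G) : IsStronglyClosed ((Q₂ n).map ι) (S : Subgroup G) := by
  have := h.comp_tau.stronglyClosed_Q₁ (by simpa [tau_z] using hz)
  rwa [← map_map, map_tau_Q₁] at this

/-- With one class of involutions, the non-central involutions of `Q₁ ∘ Q₂` are conjugate in `C(z)`. -/
theorem exists_conj_pair {w : M n} (hw : IsConj (ι w) (ι (z n))) (hne : w ≠ z n)
    (hp : par h.one_le (w.x + w.y) = 0) :
    ∃ g : G, g * ι w * g⁻¹ = ι (z n) ∧ g * ι (z n) * g⁻¹ = ι (z₁ n) := by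
  have hz := h.orderOf_eq_two (z_mul_z h.one_le) (z_ne_one h.one_le)
  obtain ⟨g, hg, hc⟩ := h.exists_conj_z hw
  obtain ⟨c, hc1, hc2⟩ := exists_sq_eq_z h.two_le (h.invol_of_isConj hz hw.symm).1 hp
  obtain ⟨d, hd⟩ := hc c hc1
  have h1 : ι (d * d) = g * ι (z n) * g⁻¹ := by rw [map_mul, hd, ← hc2, map_mul]; group
  obtain ⟨h3, h4⟩ := h.invol_of_isConj hz (isConj_iff.2 ⟨g, h1.symm⟩)
  rcases eq_of_mem_A h.one_le h3 (sq_e d) (sq_f d) with h5 | h5 | h5 | h5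
  · exact absurd h5 h4
  · rw [h5] at h1
    rw [h1] at hg
    exact absurd (h.inj (mul_left_cancel (mul_right_cancel hg))) hne
  · exact ⟨g, hg, by rw [← h1, h5]⟩
  · refine ⟨ι (u n) * g, ?_, ?_⟩
    · rw [show ι (u n) * g * ι w * (ι (u n) * g)⁻¹ = ι (u n) * (g * ι w * g⁻¹) * (ι (u n))⁻¹ by group, hg,
        ← map_mul, z_comm h.one_le, map_mul, mul_inv_cancel_right]
    · rw [show ι (u n) * g * ι (z n) * (ι (u n) * g)⁻¹ = ι (u n) * (g * ι (z n) * g⁻¹) * (ι (u n))⁻¹ by group,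
        ← h1, h5, ← map_mul, ← map_inv, ← map_mul]
      congr 1
      simp [u, z₁, z₂]

theorem exists_conj_centralizer {w w' : M n} (hw : IsConj (ι w) (ι (z n))) (hne : w ≠ z n)
    (hp : par h.one_le (w.x + w.y) = 0) (hw' : IsConj (ι w') (ι (z n))) (hne' : w' ≠ z n)
    (hp' : par h.one_le (w'.x + w'.y) = 0) :
    ∃ c ∈ centralizer ({ι (z n)} : Set G), c * ι w * c⁻¹ = ι w' := by
  obtain ⟨g, h1, h2⟩ := h.exists_conj_pair hw hne hp
  obtain ⟨k, h3, h4⟩ := h.exists_conj_pair hw' hne' hp'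
  refine ⟨k⁻¹ * g, mem_centralizer_singleton_iff.2 ?_, ?_⟩
  · calc k⁻¹ * g * ι (z n) = k⁻¹ * (g * ι (z n) * g⁻¹) * g := by group
      _ = _ := by rw [h2, ← h4]; group
  · calc k⁻¹ * g * ι w * (k⁻¹ * g)⁻¹ = k⁻¹ * (g * ι w * g⁻¹) * k := by group
      _ = _ := by rw [h1, ← h3]; group

end Emb

end CL.SylG2
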